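import Cfsg.Agent.Lib.Aut.Mat

set_option autoImplicit false
set_option linter.unusedSectionVars false

/-! Hermitian matrices over a finite field are congruent to the identity. -/

namespace Cfsg.Agent.Lib.Aut

open Module Matrix Cfsg.Agent.Lib.GL.H90

variable {F : Type*} [Field F]

theorem sq_of_orderOf_two {σ : F ≃+* F} (hσ : orderOf σ = 2) (a : F) : σ (σ a) = a := by
  have : σ ^ 2 = 1 := hσ ▸ pow_orderOf_eq_one σ
  have := congrArg (fun τ : F ≃+* F => τ a) this
  simpa [pow_two] using this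

theorem exists_ne_of_orderOf_two {σ : F ≃+* F} (hσ : orderOf σ = 2) : ∃ a, σ a ≠ a := by
  by_contra h
  push Not at h
  have : σ = 1 := RingEquiv.ext h
  rw [this, orderOf_one] at hσ
  omega

theorem exists_trace_ne_zero {σ : F ≃+* F} (hσ : orderOf σ = 2) : ∃ a, a + σ a ≠ 0 := by
  by_contra h
  push Not at h
  obtain ⟨a, ha⟩ := exists_ne_of_orderOf_two hσ
  have h1 := h 1
  rw [map_one] at h1
  apply ha
  linear_combination h a - a * h1

theorem exists_mul_map_eq [Finite F] {σ : F ≃+* F} (hσ : orderOf σ = 2) {a : F} (ha0 : a ≠ 0)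
    (ha : σ a = a) : ∃ c : F, c ≠ 0 ∧ c * σ c = a := by
  obtain ⟨c, hc, h⟩ := exists_nrm_eq σ hσ ha0 ha
  refine ⟨c, hc, ?_⟩
  simpa [nrm_apply, Finset.prod_range_succ] using h

theorem exists_map_eq_mul {σ : F ≃+* F} (hσ : orderOf σ = 2) {u : F}
    (hu : u * σ u = 1) : ∃ d : F, d ≠ 0 ∧ u * σ d = d :=
  exists_div_of_nrm_eq_one σ two_pos hσ (by
    rw [nrm_apply, show (2 : ℕ) = 1 + 1 from rfl, Finset.prod_range_succ, Finset.prod_range_one,
      pow_zero, pow_one]; exact hu)

section
variable {V : Type*} [AddCommGroup V] [Module F V]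

/-- orthonormal families for a non-degenerate hermitian form -/
theorem exists_orthonormal [Finite F] [FiniteDimensional F V] {σ : F ≃+* F} (hσ : orderOf σ = 2)
    (β : V →ₗ[F] V →+ F) (hs : ∀ u v, β v u = σ (β u v)) (hn : ∀ x, (∀ y, β y x = 0) → x = 0)
    (k : ℕ) (hk : k ≤ finrank F V) :
    ∃ v : Fin k → V, ∀ a b, β (v a) (v b) = if a = b then 1 else 0 := by
  have hr : ∀ (c : F) u v, β u (c • v) = σ c * β u v := fun c u v => by
    rw [hs, map_smul, hs v u]; simp
  induction k with
  | zero => exact ⟨Fin.elim0, fun a => a.elim0⟩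
  | succ k ih =>
    obtain ⟨v, hv⟩ := ih (by omega)
    let P : V →ₗ[F] (Fin k → F) :=
      { toFun := fun x i => β x (v i)
        map_add' := fun x y => by ext i; simp
        map_smul' := fun c x => by ext i; simp }
    have hP : ∀ x, x ∈ LinearMap.ker P ↔ ∀ i, β x (v i) = 0 := fun x => by
      rw [LinearMap.mem_ker, funext_iff]; rfl
    have hdec : ∀ y, y - ∑ i, β y (v i) • v i ∈ LinearMap.ker P := fun y => by
      rw [hP]; intro i
      simp [map_sum, hv]
    obtain ⟨x, hx, hx0⟩ : ∃ x ∈ LinearMap.ker P, x ≠ 0 := by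
      by_contra hc
      push Not at hc
      have := LinearMap.finrank_le_finrank_of_injective (f := P)
        (LinearMap.ker_eq_bot.mp ((Submodule.eq_bot_iff _).mpr hc))
      simp at this; omega
    obtain ⟨y, hy, hxy⟩ : ∃ y ∈ LinearMap.ker P, β y x ≠ 0 := by
      by_contra hc
      push Not at hc
      apply hx0
      apply hn
      intro y
      have h1 := hc _ (hdec y)
      have h2 : ∀ i, β (v i) x = 0 := fun i => by rw [hs, (hP x).mp hx i, map_zero]
      simpa [map_sum, h2] using h1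
    obtain ⟨z, hz, hzz⟩ : ∃ z ∈ LinearMap.ker P, β z z ≠ 0 := by
      by_contra hc
      push Not at hc
      obtain ⟨a, ha⟩ := exists_trace_ne_zero hσ
      apply ha
      have h1 := hc ((a / β y x) • y + x) (add_mem (Submodule.smul_mem _ _ hy) hx)
      simp only [map_add, map_smul, AddMonoidHom.add_apply, AddMonoidHom.smul_apply, hr, hc x hx,
        hc y hy, smul_eq_mul, hs y x] at h1
      rw [← map_mul, div_mul_cancel₀ _ hxy] at h1
      linear_combination h1
    obtain ⟨c, hc0, hc⟩ := exists_mul_map_eq hσ (inv_ne_zero hzz) (by rw [map_inv₀, ← hs])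
    have hz' := (hP z).mp hz
    refine ⟨Fin.cons (c • z) v, fun a b => ?_⟩
    refine Fin.cases ?_ (fun a => ?_) a <;> refine Fin.cases ?_ (fun b => ?_) b
    · simp only [Fin.cons_zero, map_smul, AddMonoidHom.smul_apply, hr, smul_eq_mul, if_true]
      rw [← mul_assoc, hc, inv_mul_cancel₀ hzz]
    · simp [hz', (Fin.succ_ne_zero b).symm]
    · simp only [Fin.cons_zero, Fin.cons_succ, hr]
      rw [hs z, hz']; simp
    · simp [hv]

end

variable {ι : Type*} [Fintype ι] [DecidableEq ι]

theorem exists_eq_mul_conjT [Finite F] {σ : F ≃+* F} (hσ : orderOf σ = 2) (M : GL ι F)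
    (hM : ((M : Matrix ι ι F).map σ)ᵀ = M) :
    ∃ h : GL ι F, (M : Matrix ι ι F) = (h : Matrix ι ι F) * ((h : Matrix ι ι F).map σ)ᵀ := by
  let β : (ι → F) →ₗ[F] (ι → F) →+ F :=
    { toFun := fun u =>
        { toFun := fun v => u ⬝ᵥ ((M : Matrix ι ι F) *ᵥ fun i => σ (v i))
          map_zero' := by simp [← Pi.zero_def]
          map_add' := fun a b => by
            rw [← dotProduct_add, ← mulVec_add]; simp [Pi.add_def] }
      map_add' := fun a b => by ext; simp
      map_smul' := fun a b => by ext; simp }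
  have hβ : ∀ u v, β u v = u ⬝ᵥ ((M : Matrix ι ι F) *ᵥ fun i => σ (v i)) := fun _ _ => rfl
  have hM' : ∀ i j, σ ((M : Matrix ι ι F) i j) = (M : Matrix ι ι F) j i := fun i j =>
    congrFun (congrFun hM j) i
  obtain ⟨v, hv⟩ := exists_orthonormal hσ β (fun u v => by
      simp only [hβ, dotProduct, mulVec, map_sum, map_mul, hM', sq_of_orderOf_two hσ, Finset.mul_sum]
      rw [Finset.sum_comm]
      exact Finset.sum_congr rfl fun i _ => Finset.sum_congr rfl fun j _ => by ring)
    (fun x hx => by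
      have h1 : (M : Matrix ι ι F) *ᵥ (fun i => σ (x i)) = 0 := by
        ext i
        simpa [hβ] using hx (Pi.single i 1)
      have h2 := inv_mulVec_mulVec M (fun i => σ (x i))
      rw [h1, mulVec_zero] at h2
      ext i
      simpa using (congrFun h2 i).symm) (Fintype.card ι) (by simp)
  let e := Fintype.equivFin ι
  let H : Matrix ι ι F := Matrix.of fun a => v (e a)
  have hH : H * (M * (H.map σ)ᵀ) = 1 := by
    ext a b
    have := hv (e a) (e b)
    simp only [hβ, EmbeddingLike.apply_eq_iff_eq] at this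
    rw [one_apply, ← this]
    rfl
  let h : GL ι F := ⟨H, M * (H.map σ)ᵀ, hH, mul_eq_one_comm.mp hH⟩
  refine ⟨h⁻¹, ?_⟩
  have h1 : ((h⁻¹ : GL ι F) : Matrix ι ι F) = M * (H.map σ)ᵀ := rfl
  have h2 : (H.map σ)ᵀ * (((h⁻¹ : GL ι F) : Matrix ι ι F).map σ)ᵀ = 1 := by
    rw [← transpose_mul, ← Matrix.map_mul (f := σ), show H = (h : Matrix ι ι F) from rfl,
      Units.inv_mul]
    simp
  conv_rhs => rw [h1, mul_assoc, ← h1, h2, mul_one]

end Cfsg.Agent.Lib.Aut
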