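import Mathlib

set_option autoImplicit false

/-! Additive maps that preserve enough lines are semilinear. -/

namespace Cfsg.Agent.Lib.Aut

open Module

variable {F W W' : Type*} [Field F] [AddCommGroup W] [Module F W] [AddCommGroup W'] [Module F W']

theorem exists_ringEquiv_of_forall [Finite F] (π : W →+ W') {w₀ : W} (h0 : π w₀ ≠ 0)
    (H : ∀ a : F, ∃ b : F, ∀ w, π (a • w) = b • π w) :
    ∃ σ : F ≃+* F, ∀ a w, π (a • w) = σ a • π w := by
  choose s hs using H
  have hu : ∀ b c : F, b • π w₀ = c • π w₀ → b = c := fun b c h => smul_left_injective F h0 h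
  let φ : F →+* F :=
    { toFun := s
      map_one' := hu _ _ (by rw [← hs, one_smul, one_smul])
      map_mul' := fun a b => hu _ _ (by rw [← hs, mul_smul, hs, hs, mul_smul])
      map_zero' := hu _ _ (by rw [← hs, zero_smul, map_zero, zero_smul])
      map_add' := fun a b => hu _ _ (by rw [← hs, add_smul, map_add, hs, hs, add_smul]) }
  have hb : Function.Bijective φ := (Finite.injective_iff_bijective).mp φ.injective
  exact ⟨RingEquiv.ofBijective φ hb, fun a w => hs a w⟩

/-- the scalars that an additive map carries to scalars -/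
def scalarSubring (π : W →+ W') : Subring F where
  carrier := {a | ∃ b : F, ∀ w, π (a • w) = b • π w}
  mul_mem' := by
    rintro a a' ⟨b, hb⟩ ⟨b', hb'⟩
    exact ⟨b * b', fun w => by rw [mul_smul, hb, hb', mul_smul]⟩
  one_mem' := ⟨1, fun w => by simp⟩
  add_mem' := by
    rintro a a' ⟨b, hb⟩ ⟨b', hb'⟩
    exact ⟨b + b', fun w => by rw [add_smul, map_add, hb, hb', add_smul]⟩
  zero_mem' := ⟨0, fun w => by simp⟩
  neg_mem' := by
    rintro a ⟨b, hb⟩
    exact ⟨-b, fun w => by rw [neg_smul, map_neg, hb, neg_smul]⟩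

theorem subring_eq_top_of_sq [Finite F] (R : Subring F) (h : ∀ a : F, a ≠ 0 → a * a ∈ R) :
    R = ⊤ := by
  have h' : ∀ a : F, a * a ∈ R := fun a => by
    by_cases ha : a = 0
    · simp [ha]
    · exact h a ha
  rw [eq_top_iff]
  intro a _
  by_cases h2 : ringChar F = 2
  · obtain ⟨b, rfl⟩ := FiniteField.isSquare_of_char_two h2 a
    exact h' b
  · have h2' : (2 : F) ≠ 0 := Ring.two_ne_zero h2
    have : a = ((a + 1) / 2) * ((a + 1) / 2) - ((a - 1) / 2) * ((a - 1) / 2) := by
      field_simp; ring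
    rw [this]
    exact R.sub_mem (h' _) (h' _)

theorem glue (π : W →+ W') {w u : W} {a b c d : F} (hw : π (a • w) = b • π w)
    (hu : π (a • u) = c • π u) (hwu : π (a • (w + u)) = d • π (w + u))
    (hind : ∀ s t : F, s • π w + t • π u = 0 → s = 0 ∧ t = 0) : b = c := by
  rw [smul_add, map_add, map_add, hw, hu, smul_add] at hwu
  have := hind (b - d) (c - d) (by
    linear_combination (norm := module) hwu)
  rw [sub_eq_zero.mp this.1, sub_eq_zero.mp this.2]

theorem indep_of_notMem_span {w u : W} (hw : w ≠ 0) (hu : ∀ c : F, u ≠ c • w) (s t : F)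
    (h : s • w + t • u = 0) : s = 0 ∧ t = 0 := by
  by_cases ht : t = 0
  · subst ht
    rw [zero_smul, add_zero] at h
    exact ⟨(smul_eq_zero.mp h).resolve_right hw, rfl⟩
  · exfalso
    apply hu (-(t⁻¹ * s))
    have : u = t⁻¹ • (t • u) := by rw [smul_smul, inv_mul_cancel₀ ht, one_smul]
    rw [this, eq_neg_of_add_eq_zero_right h, smul_neg, smul_smul, neg_smul]

theorem forall_scalar_of_lines (π : W ≃+ W') (h : ∀ w (a : F), ∃ b : F, π (a • w) = b • π w)
    (h' : ∀ w' (a : F), ∃ b : F, π.symm (a • w') = b • π.symm w')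
    (hd : ∀ w : W, ∃ u : W, ∀ c : F, u ≠ c • w) (a : F) :
    ∃ b : F, ∀ w, π (a • w) = b • π w := by
  choose s hs using fun w => h w a
  have key : ∀ w u : W, w ≠ 0 → (∀ c : F, u ≠ c • w) → s w = s u := by
    intro w u hw hu
    refine glue (π : W →+ W') (hs w) (hs u) (hs (w + u)) ?_
    apply indep_of_notMem_span
    · simpa using hw
    · intro c hc
      obtain ⟨b, hb⟩ := h' (π w) c
      apply hu b
      have : π.symm (π u) = π.symm (c • π w) := congrArg π.symm hc
      rwa [hb, AddEquiv.symm_apply_apply, AddEquiv.symm_apply_apply] at this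
  obtain ⟨w₀, hw₀⟩ := hd 0
  have hw0 : w₀ ≠ 0 := by simpa using hw₀ 0
  refine ⟨s w₀, fun w => ?_⟩
  by_cases hw : w = 0
  · simp [hw]
  rw [hs]
  congr 1
  by_cases hc : ∀ c : F, w ≠ c • w₀
  · exact (key _ _ hw0 hc).symm
  · push Not at hc
    obtain ⟨c, rfl⟩ := hc
    obtain ⟨u, hu⟩ := hd w₀
    rw [key _ _ hw0 hu]
    apply key _ _ hw
    intro d hd
    exact hu (d * c) (by rw [hd, mul_smul])

end Cfsg.Agent.Lib.Aut
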