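import Cfsg.Agent.Lib.Aut.Basic
import Cfsg.Agent.Lib.Aut.Semilin

set_option autoImplicit false

/-! Transvections in a linear group containing all of them: they are the `p`-central elements. -/

namespace Cfsg.Agent.Lib.Aut

open Module

section dualsep
variable {F V : Type*} [Field F] [AddCommGroup V] [Module F V]

theorem exists_dual_zero_one {v u : V} (h : ∀ c : F, u ≠ c • v) :
    ∃ f : Dual F V, f v = 0 ∧ f u = 1 := by
  have : u ∉ Submodule.span F {v} := by
    rw [Submodule.mem_span_singleton]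
    rintro ⟨c, hc⟩
    exact h c hc.symm
  obtain ⟨f, hf, hf'⟩ := Submodule.exists_dual_map_eq_bot_of_notMem this inferInstance
  refine ⟨(f u)⁻¹ • f, ?_, by simp [hf]⟩
  have : f v ∈ Submodule.map f (Submodule.span F {v}) :=
    ⟨v, Submodule.mem_span_singleton_self v, rfl⟩
  rw [hf'] at this
  simp [(Submodule.mem_bot F).mp this]

theorem exists_dual_one {u : V} (h : u ≠ 0) : ∃ f : Dual F V, f u = 1 := by
  obtain ⟨f, -, hf⟩ := exists_dual_zero_one (F := F) (v := 0) (u := u) (by simpa using h)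
  exact ⟨f, hf⟩

theorem exists_smul_of_forall_dual {v u : V} (h : ∀ f : Dual F V, f v = 0 → f u = 0) :
    ∃ c : F, u = c • v := by
  by_contra hc
  push Not at hc
  obtain ⟨f, h1, h2⟩ := exists_dual_zero_one hc
  simp [h f h1] at h2

theorem exists_apply_one {f : Dual F V} (h : f ≠ 0) : ∃ e, f e = 1 := by
  obtain ⟨x, hx⟩ : ∃ x, f x ≠ 0 := by
    by_contra hc
    push Not at hc
    exact h (LinearMap.ext hc)
  exact ⟨(f x)⁻¹ • x, by simp [hx]⟩

theorem exists_smul_of_ker_le {f h : Dual F V} (H : ∀ x, f x = 0 → h x = 0) :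
    ∃ c : F, h = c • f := by
  by_cases hf : f = 0
  · exact ⟨0, LinearMap.ext fun x => by simp [H x (by simp [hf])]⟩
  obtain ⟨e, he⟩ := exists_apply_one hf
  refine ⟨h e, LinearMap.ext fun x => ?_⟩
  have := H (x - f x • e) (by simp [he])
  simp only [map_sub, map_smul, smul_eq_mul] at this
  simp only [LinearMap.smul_apply, smul_eq_mul]
  linear_combination this

theorem exists_vec_zero_one {f h : Dual F V} (H : ∀ c : F, h ≠ c • f) :
    ∃ x, f x = 0 ∧ h x = 1 := by
  by_contra hc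
  push Not at hc
  obtain ⟨c, hc'⟩ := exists_smul_of_ker_le (f := f) (h := h) (fun x hx => by
    by_contra hh
    exact hc ((h x)⁻¹ • x) (by simp [hx]) (by simp [hh]))
  exact H c hc'

end dualsep

namespace LinGrp

variable {F V G : Type*} [Field F] [AddCommGroup V] [Module F V] [Group G] (L : LinGrp F V G)

/-- the contragredient action -/
def dual : LinGrp F (Dual F V) G where
  ρ :=
    { toFun := fun g => (L.ρ g⁻¹).dualMap
      map_one' := by ext f x; simp
      map_mul' := fun g h => by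
        ext f x
        simp [LinearMap.dualMap_apply, L.mul_apply] }
  inj := fun g h H => by
    have : g⁻¹ = h⁻¹ := by
      apply L.ext
      intro v
      rw [← sub_eq_zero]
      by_contra hc
      obtain ⟨f, hf⟩ := exists_dual_one (F := F) hc
      have h1 : f (L.ρ g⁻¹ v) = f (L.ρ h⁻¹ v) := congrArg (fun φ : Module.End F (Dual F V) => φ f v) H
      rw [map_sub, h1, sub_self] at hf
      exact zero_ne_one hf
    exact inv_injective this
  center_scalar := fun z hz => by
    obtain ⟨c, hc⟩ := L.center_scalar _ ((Subgroup.center G).inv_mem hz)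
    refine ⟨c, fun f => ?_⟩
    ext x
    show f (L.ρ z⁻¹ x) = _
    rw [hc]; simp

theorem dual_apply (g : G) (f : Dual F V) (x : V) : L.dual.ρ g f x = f (L.ρ g⁻¹ x) := rfl

/-- `g` is the transvection `x ↦ x + f x • v` -/
def IsTv (g : G) (f : Dual F V) (v : V) : Prop := f v = 0 ∧ ∀ x, L.ρ g x = x + f x • v

/-- all transvections lie in the group -/
def HasTv : Prop := ∀ (f : Dual F V) (v : V), f v = 0 → ∃ g, L.IsTv g f v

variable {L}

theorem IsTv.one_left (v : V) : L.IsTv 1 0 v := ⟨rfl, fun x => by simp⟩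

theorem IsTv.one_right (f : Dual F V) : L.IsTv 1 f 0 := ⟨by simp, fun x => by simp⟩

theorem IsTv.mul_left {g h : G} {f f' : Dual F V} {v : V} (h1 : L.IsTv g f v)
    (h2 : L.IsTv h f' v) : L.IsTv (g * h) (f + f') v :=
  ⟨by simp [h1.1, h2.1], fun x => by
    rw [L.mul_apply, h2.2, h1.2, map_add, map_smul, h1.1, LinearMap.add_apply]
    simp only [smul_eq_mul, mul_zero, add_zero]
    module⟩

theorem IsTv.mul_right {g h : G} {f : Dual F V} {v v' : V} (h1 : L.IsTv g f v)
    (h2 : L.IsTv h f v') : L.IsTv (g * h) f (v + v') :=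
  ⟨by simp [h1.1, h2.1], fun x => by
    rw [L.mul_apply, h2.2, h1.2, map_add, map_smul, h2.1]
    simp only [smul_eq_mul, mul_zero, add_zero]
    module⟩

theorem IsTv.eq {g h : G} {f : Dual F V} {v : V} (h1 : L.IsTv g f v) (h2 : L.IsTv h f v) :
    g = h := L.ext fun x => by rw [h1.2, h2.2]

theorem IsTv.inv_aux {g : G} {f : Dual F V} {v : V} (h1 : L.IsTv g f v) (x : V) :
    L.ρ g⁻¹ x = x - f x • v := by
  apply L.apply_injective g
  rw [L.apply_inv_apply, h1.2, map_sub, map_smul, h1.1]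
  simp

theorem IsTv.inv_left {g : G} {f : Dual F V} {v : V} (h1 : L.IsTv g f v) : L.IsTv g⁻¹ (-f) v :=
  ⟨by simp [h1.1], fun x => by rw [h1.inv_aux]; simp [sub_eq_add_neg]⟩

theorem IsTv.inv_right {g : G} {f : Dual F V} {v : V} (h1 : L.IsTv g f v) : L.IsTv g⁻¹ f (-v) :=
  ⟨by simp [h1.1], fun x => by rw [h1.inv_aux]; simp [sub_eq_add_neg]⟩

theorem IsTv.conj {g : G} {f : Dual F V} {v : V} (h1 : L.IsTv g f v) (h : G) :
    L.IsTv (h * g * h⁻¹) (L.dual.ρ h f) (L.ρ h v) :=
  ⟨by rw [dual_apply, L.inv_apply_apply, h1.1], fun x => by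
    rw [L.mul_apply, L.mul_apply, h1.2, map_add, map_smul, L.apply_inv_apply, dual_apply]⟩

theorem IsTv.smul {g : G} {f : Dual F V} {v : V} {c : F} (h1 : L.IsTv g (c • f) v) (hc : c ≠ 0) :
    L.IsTv g f (c • v) :=
  ⟨by
    have := h1.1
    simp only [LinearMap.smul_apply, smul_eq_mul, mul_eq_zero, hc, false_or] at this
    simp [this], fun x => by rw [h1.2]; simp [smul_smul, mul_comm]⟩

theorem IsTv.smul' {g : G} {f : Dual F V} {v : V} {c : F} (h1 : L.IsTv g f (c • v)) (hc : c ≠ 0) :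
    L.IsTv g (c • f) v :=
  ⟨by
    have := h1.1
    simp only [map_smul, smul_eq_mul, mul_eq_zero, hc, false_or] at this
    simp [this], fun x => by rw [h1.2]; simp [smul_smul, mul_comm]⟩

theorem IsTv.eq_one_left {g : G} {v : V} (h1 : L.IsTv g 0 v) : g = 1 := h1.eq (IsTv.one_left v)

theorem IsTv.eq_one_right {g : G} {f : Dual F V} (h1 : L.IsTv g f 0) : g = 1 :=
  h1.eq (IsTv.one_right f)

theorem IsTv.ne_one {g : G} {f : Dual F V} {v : V} (h1 : L.IsTv g f v) (hf : f ≠ 0) (hv : v ≠ 0) :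
    g ≠ 1 := by
  rintro rfl
  obtain ⟨e, he⟩ := exists_apply_one hf
  have := h1.2 e
  rw [L.one_apply, he, one_smul] at this
  exact hv (by simpa using this)

theorem IsTv.unique_right {g : G} {f : Dual F V} {v v' : V} (h1 : L.IsTv g f v)
    (h2 : L.IsTv g f v') (hf : f ≠ 0) : v = v' := by
  obtain ⟨e, he⟩ := exists_apply_one hf
  have := (h1.2 e).symm.trans (h2.2 e)
  simpa [he] using this

theorem IsTv.parallel_right {g : G} {f f' : Dual F V} {v v' : V} (h1 : L.IsTv g f v)
    (h2 : L.IsTv g f' v') (hf : f ≠ 0) : ∃ c : F, v = c • v' := by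
  obtain ⟨e, he⟩ := exists_apply_one hf
  have := (h1.2 e).symm.trans (h2.2 e)
  exact ⟨f' e, by simpa [he] using this⟩

theorem IsTv.parallel_left {g : G} {f f' : Dual F V} {v v' : V} (h1 : L.IsTv g f v)
    (h2 : L.IsTv g f' v') (hv : v ≠ 0) : ∃ c : F, f = c • f' := by
  apply exists_smul_of_ker_le
  intro x hx
  have := (h1.2 x).symm.trans (h2.2 x)
  simpa [hx, hv] using this

theorem IsTv.pelt {p : ℕ} [Fact p.Prime] [CharP F p] {g : G} {f : Dual F V} {v : V}
    (h1 : L.IsTv g f v) : PElt p g := by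
  apply L.pelt_of_nilpotent 2
  ext x
  simp [pow_two, h1.2, h1.1]

variable (L)

/-- transvections with centre `v` -/
def Qv (v : V) : Subgroup G where
  carrier := {g | ∃ f, L.IsTv g f v}
  mul_mem' := by
    rintro a b ⟨f, hf⟩ ⟨f', hf'⟩
    exact ⟨_, hf.mul_left hf'⟩
  one_mem' := ⟨0, IsTv.one_left v⟩
  inv_mem' := by
    rintro a ⟨f, hf⟩
    exact ⟨_, hf.inv_left⟩

/-- transvections with axis `ker f` -/
def Qf (f : Dual F V) : Subgroup G where
  carrier := {g | ∃ v, L.IsTv g f v}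
  mul_mem' := by
    rintro a b ⟨f, hf⟩ ⟨f', hf'⟩
    exact ⟨_, hf.mul_right hf'⟩
  one_mem' := ⟨0, IsTv.one_right f⟩
  inv_mem' := by
    rintro a ⟨f, hf⟩
    exact ⟨_, hf.inv_right⟩

theorem mem_Qv {v : V} {g : G} : g ∈ L.Qv v ↔ ∃ f, L.IsTv g f v := Iff.rfl
theorem mem_Qf {f : Dual F V} {g : G} : g ∈ L.Qf f ↔ ∃ v, L.IsTv g f v := Iff.rfl

theorem Qv_comm {v : V} {g h : G} (hg : g ∈ L.Qv v) (hh : h ∈ L.Qv v) : g * h = h * g := by
  obtain ⟨f, hf⟩ := hg
  obtain ⟨f', hf'⟩ := hh
  exact (hf.mul_left hf').eq (add_comm f f' ▸ hf'.mul_left hf)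

theorem Qf_comm {f : Dual F V} {g h : G} (hg : g ∈ L.Qf f) (hh : h ∈ L.Qf f) : g * h = h * g := by
  obtain ⟨v, hf⟩ := hg
  obtain ⟨v', hf'⟩ := hh
  exact (hf.mul_right hf').eq (add_comm v v' ▸ hf'.mul_right hf)

variable {p : ℕ} [Fact p.Prime] [CharP F p]

theorem isPGroup_Qv (v : V) : IsPGroup p (L.Qv v) :=
  isPGroup_of_forall_pelt fun _ ⟨_, hf⟩ => hf.pelt

theorem isPGroup_Qf (f : Dual F V) : IsPGroup p (L.Qf f) :=
  isPGroup_of_forall_pelt fun _ ⟨_, hf⟩ => hf.pelt

/-- a Sylow subgroup fixes an incident vector-functional pair and contains both groups -/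
theorem sylow_flag [Finite F] [FiniteDimensional F V] (hd : ∀ w : V, ∃ u : V, ∀ c : F, u ≠ c • w)
    (S : Sylow p G) : ∃ (v : V) (f : Dual F V), v ≠ 0 ∧ f ≠ 0 ∧ f v = 0 ∧
      (∀ s ∈ S, L.ρ s v = v) ∧ (∀ s ∈ S, L.dual.ρ s f = f) ∧ L.Qv v ≤ S ∧ L.Qf f ≤ S := by
  have : Finite V := Module.finite_of_finite F
  have : Finite (Dual F V) := Module.finite_of_finite F
  obtain ⟨w, hw⟩ := hd 0
  obtain ⟨v, -, hv0, hv⟩ := L.exists_fixed S.isPGroup' ⊤ (by
    intro h
    have : w ∈ (⊥ : Submodule F V) := h ▸ Submodule.mem_top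
    exact hw 0 (by simpa using this)) (fun _ _ _ _ => Submodule.mem_top)
  obtain ⟨u, hu⟩ := hd v
  obtain ⟨f₀, hf₀, hf₀'⟩ := exists_dual_zero_one hu
  obtain ⟨f, hfv, hf0, hf⟩ := L.dual.exists_fixed S.isPGroup' (LinearMap.ker (Dual.eval F V v)) (by
    intro h
    have : f₀ ∈ (⊥ : Submodule F (Dual F V)) := h ▸ (by simpa using hf₀)
    rw [(Submodule.mem_bot F).mp this] at hf₀'
    simp at hf₀') (fun s hs y hy => by
      simp only [LinearMap.mem_ker, Dual.eval_apply] at hy ⊢
      rw [dual_apply, hv _ (S.inv_mem hs), hy])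
  refine ⟨v, f, hv0, hf0, by simpa using hfv, hv, hf, ?_, ?_⟩
  · apply le_sylow_of_normalizes S (L.isPGroup_Qv v)
    rintro s hs x ⟨f', hf'⟩
    exact ⟨_, hv s hs ▸ hf'.conj s⟩
  · apply le_sylow_of_normalizes S (L.isPGroup_Qf f)
    rintro s hs x ⟨f', hf'⟩
    exact ⟨_, hf s hs ▸ hf'.conj s⟩

theorem pcentral_iff [Finite F] [FiniteDimensional F V] (hT : L.HasTv)
    (hd : ∀ w : V, ∃ u : V, ∀ c : F, u ≠ c • w) (z : G) :
    PCentral p z ↔ ∃ f v, L.IsTv z f v := by
  constructor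
  · rintro ⟨S, hzS, hz⟩
    obtain ⟨v, f, hv0, hf0, hfv, hv, hf, h1, h2⟩ := L.sylow_flag hd S
    obtain ⟨e, he⟩ := exists_apply_one hf0
    have hA : ∀ w, f w = 0 → L.ρ z w = w := by
      intro w hw
      obtain ⟨t, ht⟩ := hT f w hw
      have h3 := ht.conj z
      rw [← hz t (h2 ⟨w, ht⟩), mul_inv_cancel_right, hf z hzS] at h3
      exact h3.unique_right ht hf0
    refine ⟨f, L.ρ z e - e, ?_, fun x => ?_⟩
    · have := congrArg (fun φ : Dual F V => φ (L.ρ z e)) (hf z hzS)
      simp only [dual_apply, L.inv_apply_apply] at this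
      rw [map_sub, this, sub_self]
    · have := hA (x - f x • e) (by simp [he])
      rw [map_sub, map_smul] at this
      linear_combination (norm := module) this
  · rintro ⟨f, v, hz⟩
    by_cases h0 : f = 0 ∨ v = 0
    · rcases h0 with rfl | rfl
      · rw [hz.eq_one_left]; exact PCentral.one
      · rw [hz.eq_one_right]; exact PCentral.one
    push Not at h0
    obtain ⟨hf0, hv0⟩ := h0
    have hn : L.Qf f ≤ Subgroup.normalizer (L.Qv v : Set G) := by
      have key : ∀ s ∈ L.Qf f, ∀ x ∈ L.Qv v, s * x * s⁻¹ ∈ L.Qv v := by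
        rintro s ⟨w, hw⟩ x ⟨f', hf'⟩
        have h1 : L.ρ s v = v := by rw [hw.2, hz.1]; simp
        exact ⟨_, h1 ▸ hf'.conj s⟩
      intro s hs
      rw [Subgroup.mem_normalizer_iff]
      intro x
      refine ⟨key s hs x, fun hx => ?_⟩
      have := key s⁻¹ ((L.Qf f).inv_mem hs) _ hx
      simpa [mul_assoc] using this
    obtain ⟨S, hS⟩ := (IsPGroup.to_sup_of_normal_right' (L.isPGroup_Qf (p := p) f)
      (L.isPGroup_Qv v) hn).exists_le_sylow
    obtain ⟨v', f', hv0', hf0', -, hv, hf, -, -⟩ := L.sylow_flag hd S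
    have h1 : ∃ c : F, v' = c • v := by
      apply exists_smul_of_forall_dual
      intro h hh
      obtain ⟨t, ht⟩ := hT h v hh
      have := hv t (hS (Subgroup.mem_sup_right ⟨h, ht⟩))
      rw [ht.2] at this
      simpa [hv0] using this
    have h2 : ∃ c : F, f' = c • f := by
      apply exists_smul_of_ker_le
      intro w hw
      obtain ⟨t, ht⟩ := hT f w hw
      obtain ⟨e, he⟩ := exists_apply_one hf0
      have := congrArg (fun φ : Dual F V => φ e)
        (hf t⁻¹ (S.inv_mem (hS (Subgroup.mem_sup_left ⟨w, ht⟩))))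
      simp only [dual_apply, inv_inv] at this
      rw [ht.2, he] at this
      simpa using this
    obtain ⟨c, rfl⟩ := h1
    obtain ⟨d, rfl⟩ := h2
    have hc : c ≠ 0 := by rintro rfl; simp at hv0'
    have hd' : d ≠ 0 := by rintro rfl; simp at hf0'
    refine ⟨S, hS (Subgroup.mem_sup_left ⟨v, hz⟩), fun s hs => ?_⟩
    have h3 := hz.conj s
    have h4 : L.ρ s v = v := by
      have := hv s hs
      rw [map_smul] at this
      exact smul_right_injective V hc this
    have h5 : L.dual.ρ s f = f := by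
      have := hf s hs
      rw [map_smul] at this
      exact smul_right_injective _ hd' this
    rw [h4, h5] at h3
    have := h3.eq hz
    calc s * z = s * z * s⁻¹ * s := by group
      _ = z * s := by rw [this]

end LinGrp

end Cfsg.Agent.Lib.Aut
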