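import Cfsg.Agent.Lib.Aut.Linear1

set_option autoImplicit false

/-! An isomorphism of central quotients of groups containing all transvections permutes the
centre groups and axis groups. -/

namespace Cfsg.Agent.Lib.Aut

open Module

/-- `α` carries (the `p`-elements of) `A` onto those of `A'` -/
def Corr (p : ℕ) {G G' : Type*} [Group G] [Group G']
    (α : G ⧸ Subgroup.center G ≃* G' ⧸ Subgroup.center G') (A : Subgroup G) (A' : Subgroup G') :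
    Prop :=
  ∀ g g', Rel α g g' → PElt p g → PElt p g' → (g ∈ A ↔ g' ∈ A')

theorem Corr.symm {p : ℕ} {G G' : Type*} [Group G] [Group G']
    {α : G ⧸ Subgroup.center G ≃* G' ⧸ Subgroup.center G'} {A : Subgroup G} {A' : Subgroup G'}
    (h : Corr p α A A') : Corr p α.symm A' A := fun g' g hr h1 h2 => (h g g' hr.symm h2 h1).symm

theorem Corr.conj {p : ℕ} {G G' : Type*} [Group G] [Group G']
    {α : G ⧸ Subgroup.center G ≃* G' ⧸ Subgroup.center G'} {A B : Subgroup G} {A' B' : Subgroup G'}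
    (h : Corr p α A A') {g : G} {g' : G'} (hg : Rel α g g')
    (hB : ∀ x, x ∈ B ↔ g⁻¹ * x * g⁻¹⁻¹ ∈ A) (hB' : ∀ x, x ∈ B' ↔ g'⁻¹ * x * g'⁻¹⁻¹ ∈ A') :
    Corr p α B B' := fun x x' hr h1 h2 => by
  rw [hB, hB']
  exact h _ _ (hg.inv.conj hr) (h1.conj _) (h2.conj _)

theorem Corr.le_right {p : ℕ} [Fact p.Prime] {G G' : Type*} [Group G] [Group G'] [Finite G]
    {α : G ⧸ Subgroup.center G ≃* G' ⧸ Subgroup.center G'} {A B : Subgroup G} {A' B' : Subgroup G'}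
    (h : Corr p α A A') (h' : Corr p α B B') (hp : IsPGroup p A') (hAB : A ≤ B) : A' ≤ B' := by
  intro x' hx'
  have hpx := PElt.of_mem hp hx'
  obtain ⟨x, hx, hpx'⟩ := Rel.exists_pelt α.symm hpx
  exact (h' x x' hx.symm hpx' hpx).mp (hAB ((h x x' hx.symm hpx' hpx).mpr hx'))

namespace LinGrp

variable {F V G : Type*} [Field F] [AddCommGroup V] [Module F V] [Group G] {L : LinGrp F V G}

theorem IsTv.mem_Qv_smul {g : G} {f : Dual F V} {v : V} {c : F} (h : L.IsTv g f (c • v)) :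
    g ∈ L.Qv v := by
  by_cases hc : c = 0
  · subst hc
    rw [zero_smul] at h
    rw [h.eq_one_right]; exact Subgroup.one_mem _
  · exact ⟨_, h.smul' hc⟩

theorem IsTv.mem_Qf_smul {g : G} {f : Dual F V} {v : V} {c : F} (h : L.IsTv g (c • f) v) :
    g ∈ L.Qf f := by
  by_cases hc : c = 0
  · subst hc
    rw [zero_smul] at h
    rw [h.eq_one_left]; exact Subgroup.one_mem _
  · exact ⟨_, h.smul hc⟩

theorem swap_smul {W : Type*} [AddCommGroup W] [Module F W] {x y : W} {c : F} (h : x = c • y)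
    (hx : x ≠ 0) : ∃ d : F, y = d • x := by
  have hc : c ≠ 0 := by rintro rfl; simp [h] at hx
  exact ⟨c⁻¹, by rw [h, smul_smul, inv_mul_cancel₀ hc, one_smul]⟩

theorem prod_tv {g h : G} {f f' f'' : Dual F V} {v v' v'' : V} (h1 : L.IsTv g f v)
    (h2 : L.IsTv h f' v') (h3 : L.IsTv (g * h) f'' v'') (hf : f ≠ 0) (hv : v ≠ 0) :
    (∃ c : F, v' = c • v) ∨ (∃ c : F, f' = c • f) := by
  by_contra hc
  push Not at hc
  obtain ⟨x1, hx1, hx1'⟩ := exists_vec_zero_one (f := f') (h := f) (fun c hh => by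
    obtain ⟨d, hd⟩ := swap_smul hh hf
    exact hc.2 d hd)
  obtain ⟨x2, hx2, hx2'⟩ := exists_vec_zero_one hc.2
  have e1 := h3.2 x1
  rw [L.mul_apply, h2.2, hx1, zero_smul, add_zero, h1.2, hx1', one_smul, add_right_inj] at e1
  have e2 := h3.2 x2
  rw [L.mul_apply, h2.2, hx2', one_smul, h1.2, map_add, hx2, zero_add, add_assoc,
    add_right_inj] at e2
  obtain ⟨d, hd⟩ := swap_smul e1 hv
  apply hc.1 (f'' x2 * d - f v')
  rw [hd] at e2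
  linear_combination (norm := module) e2

variable (L)

/-- a centre group or an axis group -/
def IsM (A : Subgroup G) : Prop := (∃ v ≠ 0, A = L.Qv v) ∨ (∃ f ≠ 0, A = L.Qf f)

theorem exists_isM [Nontrivial V] (A : Set G) (hA : ∀ g ∈ A, ∃ f v, L.IsTv g f v)
    (hmul : ∀ g ∈ A, ∀ h ∈ A, g * h ∈ A) : ∃ B, L.IsM B ∧ A ⊆ B := by
  have hne : ∀ g ∈ A, g ≠ 1 → ∃ f v, f ≠ 0 ∧ v ≠ 0 ∧ L.IsTv g f v := by
    intro g hg h1
    obtain ⟨f, v, h⟩ := hA g hg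
    refine ⟨f, v, ?_, ?_, h⟩
    · rintro rfl; exact h1 h.eq_one_left
    · rintro rfl; exact h1 h.eq_one_right
  by_cases h0 : ∀ g ∈ A, g = 1
  · obtain ⟨v, hv⟩ := exists_ne (0 : V)
    exact ⟨_, Or.inl ⟨v, hv, rfl⟩, fun g hg => by rw [h0 g hg]; exact Subgroup.one_mem _⟩
  push Not at h0
  obtain ⟨t1, ht1, h1⟩ := h0
  obtain ⟨f1, v1, hf1, hv1, H1⟩ := hne t1 ht1 h1
  by_cases hq : A ⊆ L.Qv v1
  · exact ⟨_, Or.inl ⟨v1, hv1, rfl⟩, hq⟩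
  obtain ⟨t2, ht2, h2⟩ := Set.not_subset.mp hq
  obtain ⟨f2, v2, hf2, hv2, H2⟩ := hne t2 ht2 (by rintro rfl; exact h2 (Subgroup.one_mem _))
  have h12 : ∀ c : F, v2 ≠ c • v1 := by
    rintro c rfl
    exact h2 H2.mem_Qv_smul
  obtain ⟨c, hc⟩ : ∃ c : F, f2 = c • f1 := by
    obtain ⟨f, v, H⟩ := hA _ (hmul _ ht1 _ ht2)
    rcases prod_tv H1 H2 H hf1 hv1 with ⟨c, hc⟩ | h
    · exact absurd hc (h12 c)
    · exact h
  refine ⟨_, Or.inr ⟨f1, hf1, rfl⟩, fun t3 ht3 => ?_⟩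
  by_cases h3 : t3 = 1
  · rw [h3]; exact Subgroup.one_mem _
  obtain ⟨f3, v3, hf3, hv3, H3⟩ := hne t3 ht3 h3
  obtain ⟨f, v, H⟩ := hA _ (hmul _ ht1 _ ht3)
  rcases prod_tv H1 H3 H hf1 hv1 with ⟨a, ha⟩ | ⟨a, rfl⟩
  · obtain ⟨f, v, H⟩ := hA _ (hmul _ ht2 _ ht3)
    rcases prod_tv H2 H3 H hf2 hv2 with ⟨b, hb⟩ | ⟨b, rfl⟩
    · obtain ⟨d, hd⟩ := swap_smul hb hv3
      exact absurd (by rw [hd, ha, smul_smul]) (h12 (d * a))
    · rw [hc, smul_smul] at H3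
      exact H3.mem_Qf_smul
  · exact H3.mem_Qf_smul

variable {L}

theorem Qv_smul (v : V) {c : F} (hc : c ≠ 0) : L.Qv (c • v) = L.Qv v := by
  ext g
  exact ⟨fun ⟨_, h⟩ => h.mem_Qv_smul, fun ⟨f, h⟩ => IsTv.mem_Qv_smul (f := f) (c := c⁻¹)
    (by rwa [smul_smul, inv_mul_cancel₀ hc, one_smul])⟩

theorem Qf_smul (f : Dual F V) {c : F} (hc : c ≠ 0) : L.Qf (c • f) = L.Qf f := by
  ext g
  exact ⟨fun ⟨_, h⟩ => h.mem_Qf_smul, fun ⟨v, h⟩ => IsTv.mem_Qf_smul (v := v) (c := c⁻¹)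
    (by rwa [smul_smul, inv_mul_cancel₀ hc, one_smul])⟩

theorem exists_dual_ne_zero_apply (hd : ∀ w : V, ∃ u : V, ∀ c : F, u ≠ c • w) (v : V) :
    ∃ f : Dual F V, f ≠ 0 ∧ f v = 0 := by
  obtain ⟨u, hu⟩ := hd v
  obtain ⟨f, h1, h2⟩ := exists_dual_zero_one hu
  exact ⟨f, by rintro rfl; simp at h2, h1⟩

theorem exists_ker_ne_zero (hd : ∀ w : V, ∃ u : V, ∀ c : F, u ≠ c • w) (f : Dual F V) :
    ∃ v : V, v ≠ 0 ∧ f v = 0 := by
  by_cases hf : f = 0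
  · obtain ⟨u, hu⟩ := hd 0
    exact ⟨u, by simpa using hu 0, by simp [hf]⟩
  obtain ⟨e, he⟩ := exists_apply_one hf
  obtain ⟨u, hu⟩ := hd e
  exact ⟨u - f u • e, fun h => hu _ (sub_eq_zero.mp h), by simp [he]⟩

theorem parallel_of_Qv_le (hT : L.HasTv) (hd : ∀ w : V, ∃ u : V, ∀ c : F, u ≠ c • w) {v u : V}
    (h : L.Qv v ≤ L.Qv u) : ∃ c : F, v = c • u := by
  obtain ⟨f, hf0, hf⟩ := exists_dual_ne_zero_apply hd v
  obtain ⟨t, ht⟩ := hT f v hf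
  obtain ⟨f', ht'⟩ := h ⟨f, ht⟩
  exact ht.parallel_right ht' hf0

theorem parallel_of_Qf_le (hT : L.HasTv) (hd : ∀ w : V, ∃ u : V, ∀ c : F, u ≠ c • w)
    {f h : Dual F V} (H : L.Qf f ≤ L.Qf h) : ∃ c : F, f = c • h := by
  obtain ⟨v, hv0, hv⟩ := exists_ker_ne_zero hd f
  obtain ⟨t, ht⟩ := hT f v hv
  obtain ⟨f', ht'⟩ := H ⟨v, ht⟩
  exact ht.parallel_left ht' hv0

theorem ann_of_Qv_le_Qf (hT : L.HasTv) {v : V} (hv : v ≠ 0) {h : Dual F V}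
    (H : L.Qv v ≤ L.Qf h) (f : Dual F V) (hf : f v = 0) : ∃ c : F, f = c • h := by
  obtain ⟨t, ht⟩ := hT f v hf
  obtain ⟨w, ht'⟩ := H ⟨f, ht⟩
  exact ht.parallel_left ht' hv

theorem ker_of_Qf_le_Qv (hT : L.HasTv) {f : Dual F V} (hf : f ≠ 0) {u : V}
    (H : L.Qf f ≤ L.Qv u) (w : V) (hw : f w = 0) : ∃ c : F, w = c • u := by
  obtain ⟨t, ht⟩ := hT f w hw
  obtain ⟨f', ht'⟩ := H ⟨w, ht⟩
  exact ht.parallel_right ht' hf

theorem IsM.le_of_le (hT : L.HasTv) (hd : ∀ w : V, ∃ u : V, ∀ c : F, u ≠ c • w)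
    {A B : Subgroup G} (hA : L.IsM A) (hB : L.IsM B) (h : A ≤ B) : B ≤ A := by
  rcases hA with ⟨v, hv, rfl⟩ | ⟨f, hf, rfl⟩ <;> rcases hB with ⟨u, hu, rfl⟩ | ⟨f', hf', rfl⟩
  · obtain ⟨c, rfl⟩ := parallel_of_Qv_le hT hd h
    rw [Qv_smul u (by rintro rfl; simp at hv)]
  · rintro t ⟨w, ht⟩
    obtain ⟨c, rfl⟩ := exists_smul_of_forall_dual (v := v) (u := w) (fun f hf => by
      obtain ⟨c, rfl⟩ := ann_of_Qv_le_Qf hT hv h f hf
      simp [ht.1])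
    exact ht.mem_Qv_smul
  · rintro t ⟨f', ht⟩
    obtain ⟨c, rfl⟩ := exists_smul_of_ker_le (f := f) (h := f') (fun w hw => by
      obtain ⟨c, rfl⟩ := ker_of_Qf_le_Qv hT hf h w hw
      simp [ht.1])
    exact ht.mem_Qf_smul
  · obtain ⟨c, rfl⟩ := parallel_of_Qf_le hT hd h
    rw [Qf_smul f' (by rintro rfl; simp at hf)]

theorem IsM.tv {A : Subgroup G} (hA : L.IsM A) {g : G} (hg : g ∈ A) : ∃ f v, L.IsTv g f v := by
  rcases hA with ⟨v, -, rfl⟩ | ⟨f, -, rfl⟩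
  · obtain ⟨f, h⟩ := hg; exact ⟨f, v, h⟩
  · obtain ⟨v, h⟩ := hg; exact ⟨f, v, h⟩

theorem IsM.comm {A : Subgroup G} (hA : L.IsM A) {g h : G} (hg : g ∈ A) (hh : h ∈ A) :
    g * h = h * g := by
  rcases hA with ⟨v, -, rfl⟩ | ⟨f, -, rfl⟩
  · exact L.Qv_comm hg hh
  · exact L.Qf_comm hg hh

variable {p : ℕ} [Fact p.Prime] [CharP F p] [Finite F]
  {V' G' : Type*} [AddCommGroup V'] [Module F V'] [Group G'] {L' : LinGrp F V' G'}
  [FiniteDimensional F V] [FiniteDimensional F V'] [Finite G] [Finite G']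

theorem nontrivial_of_hd (hd : ∀ w : V, ∃ u : V, ∀ c : F, u ≠ c • w) : Nontrivial V := by
  obtain ⟨u, hu⟩ := hd 0
  exact ⟨u, 0, by simpa using hu 0⟩

theorem image_sub_isM (hT : L.HasTv) (hd : ∀ w : V, ∃ u : V, ∀ c : F, u ≠ c • w)
    (hT' : L'.HasTv) (hd' : ∀ w : V', ∃ u : V', ∀ c : F, u ≠ c • w)
    (α : G ⧸ Subgroup.center G ≃* G' ⧸ Subgroup.center G') {A : Subgroup G} (hA : L.IsM A) :
    ∃ A', L'.IsM A' ∧ ∀ g ∈ A, ∀ g', Rel α g g' → PElt p g' → g' ∈ A' := by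
  have := nontrivial_of_hd hd'
  obtain ⟨A', hA', h⟩ := L'.exists_isM {g' | PElt p g' ∧ ∃ g ∈ A, Rel α g g'} (by
    rintro g' ⟨hp, g, hg, hr⟩
    rw [← L'.pcentral_iff (p := p) hT' hd']
    exact L'.rel_pcentral hr hp ((L.pcentral_iff hT hd g).mpr (hA.tv hg))) (by
    rintro g' ⟨hp, g, hg, hr⟩ h' ⟨hp', h, hh, hr'⟩
    exact ⟨hp.mul_of_commute hp' (L'.rel_commute hr hr' hp' (hA.comm hg hh)), g * h,
      A.mul_mem hg hh, hr.mul hr'⟩)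
  exact ⟨A', hA', fun g hg g' hr hp => h ⟨hp, g, hg, hr⟩⟩

theorem exists_corr_isM (hT : L.HasTv) (hd : ∀ w : V, ∃ u : V, ∀ c : F, u ≠ c • w)
    (hT' : L'.HasTv) (hd' : ∀ w : V', ∃ u : V', ∀ c : F, u ≠ c • w)
    (α : G ⧸ Subgroup.center G ≃* G' ⧸ Subgroup.center G') {A : Subgroup G} (hA : L.IsM A) :
    ∃ A', L'.IsM A' ∧ Corr p α A A' := by
  obtain ⟨A', hA', h⟩ := image_sub_isM (p := p) hT hd hT' hd' α hA
  obtain ⟨B, hB, h'⟩ := image_sub_isM (p := p) hT' hd' hT hd α.symm hA'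
  have hAB : A ≤ B := by
    intro g hg
    obtain ⟨f, v, ht⟩ := hA.tv hg
    obtain ⟨g', hr, hp⟩ := Rel.exists_pelt α (ht.pelt (p := p))
    exact h' g' (h g hg g' hr hp) g hr.symm ht.pelt
  exact ⟨A', hA', fun g g' hr hp hp' =>
    ⟨fun hg => h g hg g' hr hp', fun hg' => hA.le_of_le hT hd hB hAB (h' g' hg' g hr.symm hp)⟩⟩

end LinGrp

end Cfsg.Agent.Lib.Aut
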