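import Cfsg.Agent.Lib.Aut.Linear2

set_option autoImplicit false
set_option linter.unusedSectionVars false

/-! Construction of the semilinear map inducing an isomorphism of projective special linear
groups. -/

namespace Cfsg.Agent.Lib.Aut

open Module

/-- the end game: a semilinear bijection which is equivariant on a rigid set of points conjugates
related elements into each other up to scalars -/
theorem LinGrp.endgame {F V G V' G' : Type*} [Field F] [AddCommGroup V] [Module F V] [Group G]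
    [AddCommGroup V'] [Module F V'] [Group G'] (L : LinGrp F V G) (L' : LinGrp F V' G')
    (σ : F ≃+* F) (θ : V ≃+ V') (hθ : ∀ (a : F) x, θ (a • x) = σ a • θ x) (X : Set V)
    (hX : ∀ φ : Module.End F V, (∀ x ∈ X, ∃ c : F, φ x = c • x) → ∃ c : F, ∀ x, φ x = c • x)
    {g : G} {g' : G'} (h : ∀ x ∈ X, ∃ c : F, θ (L.ρ g x) = c • L'.ρ g' (θ x)) :
    ∃ c : F, ∀ x, θ (L.ρ g x) = c • L'.ρ g' (θ x) := by
  have hθ' : ∀ (a : F) y, θ.symm (σ a • y) = a • θ.symm y := fun a y => by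
    apply θ.injective
    rw [hθ, AddEquiv.apply_symm_apply, AddEquiv.apply_symm_apply]
  let φ : Module.End F V :=
    { toFun := fun x => θ.symm (L'.ρ g'⁻¹ (θ (L.ρ g x)))
      map_add' := fun x y => by simp
      map_smul' := fun a x => by rw [map_smul, hθ, map_smul, hθ']; rfl }
  obtain ⟨c, hc⟩ := hX φ (fun x hx => by
    obtain ⟨c, hc⟩ := h x hx
    refine ⟨σ.symm c, ?_⟩
    show θ.symm (L'.ρ g'⁻¹ (θ (L.ρ g x))) = _
    rw [hc, map_smul, L'.inv_apply_apply]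
    apply θ.injective
    rw [hθ]; simp)
  refine ⟨σ c, fun x => ?_⟩
  have h1 : θ.symm (L'.ρ g'⁻¹ (θ (L.ρ g x))) = c • x := hc x
  have h2 := congrArg (fun y => L'.ρ g' (θ y)) h1
  simp only [AddEquiv.apply_symm_apply, LinGrp.apply_inv_apply] at h2
  rw [h2, hθ, map_smul]

theorem rigid_univ {F V : Type*} [Field F] [AddCommGroup V] [Module F V] (φ : Module.End F V)
    (h : ∀ x ∈ {x : V | x ≠ 0}, ∃ c : F, φ x = c • x) : ∃ c : F, ∀ x, φ x = c • x := by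
  obtain ⟨c, hc⟩ := LinearMap.exists_eq_smul_id_of_forall_notLinearIndependent (f := φ) (fun v => by
    rw [LinearIndependent.pair_iff]
    intro H
    by_cases hv : v = 0
    · simpa [hv] using H 1 0
    · obtain ⟨c, hc⟩ := h v hv
      simpa [hc] using H c (-1))
  exact ⟨c, fun x => by rw [hc]; rfl⟩

namespace LinGrp

variable {F V G : Type*} [Field F] [AddCommGroup V] [Module F V] [Group G] {L : LinGrp F V G}

theorem exists_dual_one_one {v u : V} (h : ∀ c : F, u ≠ c • v) (hv : v ≠ 0) :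
    ∃ f : Dual F V, f v = 1 ∧ f u = 1 := by
  obtain ⟨f, h1, h2⟩ := exists_dual_zero_one h
  obtain ⟨f', h3, h4⟩ := exists_dual_zero_one (F := F) (v := u) (u := v) (fun c hc => by
    obtain ⟨d, hd⟩ := swap_smul hc hv
    exact h d hd)
  exact ⟨f + f', by simp [h1, h4], by simp [h2, h3]⟩

theorem HasTv.trans_indep (hT : L.HasTv) {v u : V} (h : ∀ c : F, u ≠ c • v) (hv : v ≠ 0) :
    ∃ g, L.ρ g v = u := by
  obtain ⟨f, h1, h2⟩ := exists_dual_one_one h hv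
  obtain ⟨t, ht⟩ := hT f (u - v) (by simp [h1, h2])
  exact ⟨t, by rw [ht.2, h1]; simp⟩

theorem HasTv.trans (hT : L.HasTv) (hd : ∀ w : V, ∃ u : V, ∀ c : F, u ≠ c • w) {v u : V}
    (hv : v ≠ 0) (hu : u ≠ 0) : ∃ g, L.ρ g v = u := by
  by_cases h : ∀ c : F, u ≠ c • v
  · exact hT.trans_indep h hv
  push Not at h
  obtain ⟨c, rfl⟩ := h
  obtain ⟨z, hz⟩ := hd v
  obtain ⟨g, hg⟩ := hT.trans_indep hz hv
  obtain ⟨g', hg'⟩ := hT.trans_indep (v := z) (u := c • v) (fun d hd => by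
    obtain ⟨e, he⟩ := swap_smul hd hu
    exact hz (e * c) (by rw [he, smul_smul])) (by simpa using hz 0)
  exact ⟨g' * g, by rw [L.mul_apply, hg, hg']⟩

theorem mem_Qv_conj (g : G) (v : V) (x : G) : x ∈ L.Qv (L.ρ g v) ↔ g⁻¹ * x * g⁻¹⁻¹ ∈ L.Qv v := by
  constructor
  · rintro ⟨f, h⟩
    have := h.conj g⁻¹
    rw [L.inv_apply_apply] at this
    exact ⟨_, this⟩
  · rintro ⟨f, h⟩
    have := h.conj g
    rw [show g * (g⁻¹ * x * g⁻¹⁻¹) * g⁻¹ = x by group] at this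
    exact ⟨_, this⟩

variable {p : ℕ} [Fact p.Prime] [CharP F p] [Finite F]
  {V' G' : Type*} [AddCommGroup V'] [Module F V'] [Group G'] {L' : LinGrp F V' G'}
  [FiniteDimensional F V] [FiniteDimensional F V'] [Finite G] [Finite G']
  {α : G ⧸ Subgroup.center G ≃* G' ⧸ Subgroup.center G'}

theorem corr_Qv_conj {v : V} {v' : V'} (h : Corr p α (L.Qv v) (L'.Qv v')) {g : G} {g' : G'}
    (hr : Rel α g g') : Corr p α (L.Qv (L.ρ g v)) (L'.Qv (L'.ρ g' v')) :=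
  h.conj hr (mem_Qv_conj g v) (mem_Qv_conj g' v')

theorem corr_Qv_unique (hT' : L'.HasTv) (hd' : ∀ w : V', ∃ u : V', ∀ c : F, u ≠ c • w)
    {A : Subgroup G} {v' v'' : V'} (h : Corr p α A (L'.Qv v')) (h' : Corr p α A (L'.Qv v'')) :
    ∃ c : F, v' = c • v'' :=
  parallel_of_Qv_le hT' hd' (h.le_right h' (L'.isPGroup_Qv v') le_rfl)

/-- the additive map between the hyperplanes -/
theorem exists_addEquiv_ker (hT : L.HasTv) (hT' : L'.HasTv) {f : Dual F V} {f' : Dual F V'}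
    (hf : f ≠ 0) (hf' : f' ≠ 0) (H : Corr p α (L.Qf f) (L'.Qf f')) :
    ∃ π : LinearMap.ker f ≃+ LinearMap.ker f', ∀ (w : LinearMap.ker f) t t', L.IsTv t f w →
      L'.IsTv t' f' (π w) → Rel α t t' := by
  have h1 : ∀ w : LinearMap.ker f, ∃ w' : LinearMap.ker f', ∀ t t', L.IsTv t f w →
      L'.IsTv t' f' w' → Rel α t t' := by
    intro w
    obtain ⟨t, ht⟩ := hT f w w.2
    obtain ⟨t', hr, hp⟩ := Rel.exists_pelt α (ht.pelt (p := p))
    obtain ⟨w', ht'⟩ := (H t t' hr ht.pelt hp).mp ⟨_, ht⟩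
    exact ⟨⟨w', ht'.1⟩, fun s s' hs hs' => by rw [hs.eq ht, hs'.eq ht']; exact hr⟩
  choose π hπ using h1
  have huniq : ∀ (w : LinearMap.ker f) (w' : LinearMap.ker f') t t', L.IsTv t f w →
      L'.IsTv t' f' w' → Rel α t t' → π w = w' := by
    intro w w' t t' ht ht' hr
    obtain ⟨s', hs'⟩ := hT' f' (π w) (π w).2
    have := L'.rel_unique (p := p) (hπ w t s' ht hs') hr hs'.pelt ht'.pelt
    subst this
    exact Subtype.ext (hs'.unique_right ht' hf')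
  have hadd : ∀ w u, π (w + u) = π w + π u := by
    intro w u
    obtain ⟨t, ht⟩ := hT f w w.2
    obtain ⟨s, hs⟩ := hT f u u.2
    obtain ⟨t', ht'⟩ := hT' f' (π w) (π w).2
    obtain ⟨s', hs'⟩ := hT' f' (π u) (π u).2
    exact huniq _ _ _ _ (ht.mul_right hs) (ht'.mul_right hs')
      ((hπ w t t' ht ht').mul (hπ u s s' hs hs'))
  have hinj : Function.Injective π := by
    intro w u h
    obtain ⟨t, ht⟩ := hT f w w.2
    obtain ⟨s, hs⟩ := hT f u u.2
    obtain ⟨t', ht'⟩ := hT' f' (π w) (π w).2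
    have := L.rel_unique (p := p) (hπ w t t' ht ht').symm (hπ u s t' hs (h ▸ ht')).symm ht.pelt
      hs.pelt
    subst this
    exact Subtype.ext (ht.unique_right hs hf)
  have hsurj : Function.Surjective π := by
    intro w'
    obtain ⟨t', ht'⟩ := hT' f' w' w'.2
    obtain ⟨t, hr, hp⟩ := Rel.exists_pelt α.symm (ht'.pelt (p := p))
    obtain ⟨w, ht⟩ := (H t t' hr.symm hp ht'.pelt).mpr ⟨_, ht'⟩
    exact ⟨⟨w, ht.1⟩, huniq _ _ _ _ ht ht' hr.symm⟩
  exact ⟨AddEquiv.ofBijective (AddMonoidHom.mk' π hadd) ⟨hinj, hsurj⟩, hπ⟩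

theorem corr_pi (hT : L.HasTv) (hT' : L'.HasTv)
    (H1 : ∀ v : V, v ≠ 0 → ∃ v' : V', v' ≠ 0 ∧ Corr p α (L.Qv v) (L'.Qv v'))
    {f : Dual F V} {f' : Dual F V'} (hf' : f' ≠ 0)
    (π : LinearMap.ker f ≃+ LinearMap.ker f') (hπ : ∀ (w : LinearMap.ker f) t t', L.IsTv t f w →
      L'.IsTv t' f' (π w) → Rel α t t') (w : LinearMap.ker f) (hw : w ≠ 0) :
    Corr p α (L.Qv (w : V)) (L'.Qv (π w : V')) := by
  obtain ⟨v', -, hv'⟩ := H1 w (by simpa using hw)
  obtain ⟨t, ht⟩ := hT f w w.2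
  obtain ⟨t', ht'⟩ := hT' f' (π w) (π w).2
  obtain ⟨h', hh'⟩ := (hv' t t' (hπ w t t' ht ht') ht.pelt ht'.pelt).mp ⟨_, ht⟩
  obtain ⟨c, hc⟩ := ht'.parallel_right hh' hf'
  have hc0 : c ≠ 0 := by
    rintro rfl
    apply hw
    simpa using hc
  rwa [hc, Qv_smul _ hc0]

/-- the semilinear map, given semilinearity on the hyperplane -/
theorem exists_semilinear_of_pi (hT : L.HasTv) (hd : ∀ w : V, ∃ u : V, ∀ c : F, u ≠ c • w)
    (hT' : L'.HasTv) (hd' : ∀ w : V', ∃ u : V', ∀ c : F, u ≠ c • w)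
    (H1 : ∀ v : V, v ≠ 0 → ∃ v' : V', v' ≠ 0 ∧ Corr p α (L.Qv v) (L'.Qv v'))
    {f : Dual F V} {f' : Dual F V'} (hf : f ≠ 0) (hf' : f' ≠ 0)
    (π : LinearMap.ker f ≃+ LinearMap.ker f') (hπ : ∀ (w : LinearMap.ker f) t t', L.IsTv t f w →
      L'.IsTv t' f' (π w) → Rel α t t')
    (hs : ∀ a : F, ∃ b : F, ∀ w, π (a • w) = b • π w) :
    ∃ (σ : F ≃+* F) (θ : V ≃+ V'), (∀ (a : F) x, θ (a • x) = σ a • θ x) ∧
      ∀ g g', Rel α g g' → ∃ c : F, ∀ x, θ (L.ρ g x) = c • L'.ρ g' (θ x) := by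
  obtain ⟨w₀, hw₀, hw₀'⟩ := exists_ker_ne_zero hd f
  obtain ⟨σ, hσ⟩ := exists_ringEquiv_of_forall (π : LinearMap.ker f →+ LinearMap.ker f')
    (w₀ := ⟨w₀, hw₀'⟩) (by simpa [Subtype.ext_iff] using hw₀) hs
  replace hσ : ∀ (a : F) w, π (a • w) = σ a • π w := hσ
  have hcp := corr_pi hT hT' H1 hf' π hπ
  obtain ⟨e, he⟩ := exists_apply_one hf
  have he0 : e ≠ 0 := by rintro rfl; simp at he
  obtain ⟨e₁, he₁, hce₁⟩ := H1 e he0
  have hfe₁ : f' e₁ ≠ 0 := by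
    intro h
    obtain ⟨w, hw⟩ := π.surjective ⟨e₁, h⟩
    have hw0 : w ≠ 0 := by
      rintro rfl
      apply he₁
      simpa using congrArg Subtype.val hw.symm
    have h1 := hcp w hw0
    rw [hw] at h1
    obtain ⟨c, hc⟩ := corr_Qv_unique hT hd hce₁.symm h1.symm
    have := congrArg f hc
    rw [he, map_smul, w.2] at this
    simp at this
  obtain ⟨e', he', hce⟩ : ∃ e' : V', f' e' = 1 ∧ Corr p α (L.Qv e) (L'.Qv e') :=
    ⟨(f' e₁)⁻¹ • e₁, by simp [hfe₁], by rwa [Qv_smul _ (inv_ne_zero hfe₁)]⟩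
  let pr : V →ₗ[F] LinearMap.ker f :=
    LinearMap.codRestrict _ (LinearMap.id - f.smulRight e) (fun x => by simp [he])
  have hpr : ∀ x, (pr x : V) = x - f x • e := fun x => rfl
  let θ₀ : V →+ V' := AddMonoidHom.mk' (fun x => σ (f x) • e' + (π (pr x) : V')) (fun x y => by
    simp only [map_add, add_smul, Submodule.coe_add]; abel)
  have hθ₀ : ∀ x, θ₀ x = σ (f x) • e' + (π (pr x) : V') := fun x => rfl
  have hfθ : ∀ x, f' (θ₀ x) = σ (f x) := fun x => by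
    rw [hθ₀, map_add, map_smul, he', (π (pr x)).2]; simp
  have hinj : Function.Injective θ₀ := by
    rw [injective_iff_map_eq_zero]
    intro x hx
    have h1 : f x = 0 := by simpa [hx] using (hfθ x).symm
    rw [hθ₀, h1, map_zero, zero_smul, zero_add] at hx
    have h2 : pr x = 0 := by simpa using hx
    simpa [h1, h2] using (hpr x).symm
  have hsurj : Function.Surjective θ₀ := by
    intro y
    obtain ⟨w, hw⟩ := π.surjective ⟨y - f' y • e', by simp [he']⟩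
    refine ⟨σ.symm (f' y) • e + w, ?_⟩
    have h1 : f (σ.symm (f' y) • e + w) = σ.symm (f' y) := by
      rw [map_add, map_smul, he, w.2]; simp
    have h2 : pr (σ.symm (f' y) • e + w) = w := Subtype.ext (by rw [hpr, h1]; simp)
    rw [hθ₀, h1, h2, hw]; simp
  let θ : V ≃+ V' := AddEquiv.ofBijective θ₀ ⟨hinj, hsurj⟩
  have hθ : ∀ (a : F) x, θ (a • x) = σ a • θ x := fun a x => by
    show θ₀ (a • x) = σ a • θ₀ x
    rw [hθ₀, hθ₀, map_smul f, map_smul pr, hσ, smul_eq_mul, map_mul, smul_add, mul_smul]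
    rfl
  have hΦ : ∀ x, x ≠ 0 → Corr p α (L.Qv x) (L'.Qv (θ x)) := by
    intro x hx
    by_cases h0 : f x = 0
    · have h2 : pr x = ⟨x, h0⟩ := Subtype.ext (by rw [hpr, h0]; simp)
      have : θ x = π ⟨x, h0⟩ := by
        show θ₀ x = _
        rw [hθ₀, h0, h2]; simp
      rw [this]
      exact hcp ⟨x, h0⟩ (by simpa [Subtype.ext_iff] using hx)
    · obtain ⟨y, a, ha, hfy, rfl⟩ : ∃ (y : V) (a : F), a ≠ 0 ∧ f y = 1 ∧ x = a • y :=
        ⟨(f x)⁻¹ • x, f x, h0, by simp [h0], by rw [smul_smul, mul_inv_cancel₀ h0, one_smul]⟩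
      rw [hθ, Qv_smul _ ha, Qv_smul _ (by simpa using ha)]
      obtain ⟨t, ht⟩ := hT f (pr y) (pr y).2
      obtain ⟨t', ht'⟩ := hT' f' (π (pr y)) (π (pr y)).2
      have := corr_Qv_conj hce (hπ _ t t' ht ht')
      rw [ht.2, ht'.2, he, he', hpr, hfy, one_smul, one_smul, one_smul, add_sub_cancel] at this
      have h3 : θ y = e' + (π (pr y) : V') := by
        show θ₀ y = _
        rw [hθ₀, hfy]; simp
      rwa [h3]
  refine ⟨σ, θ, hθ, fun g g' hr => ?_⟩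
  apply L.endgame L' σ θ hθ {x | x ≠ 0} rigid_univ
  intro x hx
  exact corr_Qv_unique hT' hd' (hΦ _ (L.apply_ne_zero g hx)) (corr_Qv_conj (hΦ x hx) hr)

theorem torus_two (hT : L.HasTv) {f h : Dual F V} {e w : V} (hfe : f e = 1) (hfw : f w = 0)
    (hhe : h e = 0) (hhw : h w = 1) {a : F} (ha : a ≠ 0) :
    ∃ g, L.ρ g w = a • w ∧ L.ρ g e = a⁻¹ • e := by
  have key : ∀ b : F, b ≠ 0 → ∃ g, L.ρ g e = b • w ∧ L.ρ g w = -b⁻¹ • e := by
    intro b hb
    obtain ⟨t, ht⟩ := hT f (b • w) (by simp [hfw])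
    obtain ⟨s, hs⟩ := hT h (-b⁻¹ • e) (by simp [hhe])
    refine ⟨t * s * t, ?_, ?_⟩
    · simp only [L.mul_apply, ht.2, hs.2, map_add, map_smul, hfe, hfw, hhe, hhw, smul_eq_mul]
      match_scalars <;> field_simp <;> ring
    · simp only [L.mul_apply, ht.2, hs.2, map_add, map_smul, hfe, hfw, hhe, hhw, smul_eq_mul]
      match_scalars <;> field_simp <;> ring
  obtain ⟨g, hg, hg'⟩ := key a ha
  obtain ⟨k, hk, hk'⟩ := key 1 one_ne_zero
  have h1 : L.ρ k⁻¹ w = e := by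
    apply L.apply_injective k; rw [hk]; simp
  have h2 : L.ρ k⁻¹ e = -w := by
    apply L.apply_injective k; rw [map_neg, hk']; simp
  exact ⟨g * k⁻¹, by rw [L.mul_apply, h1, hg], by rw [L.mul_apply, h2, map_neg, hg']; simp⟩

/-- dimension two -/
theorem exists_semilinear_two (hT : L.HasTv) (hd : ∀ w : V, ∃ u : V, ∀ c : F, u ≠ c • w)
    (hT' : L'.HasTv) (hd' : ∀ w : V', ∃ u : V', ∀ c : F, u ≠ c • w)
    (h2 : ∀ (f : Dual F V) (w u : V), f ≠ 0 → f w = 0 → w ≠ 0 → f u = 0 → ∃ c : F, u = c • w)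
    (h2' : ∀ (f : Dual F V') (w u : V'), f ≠ 0 → f w = 0 → w ≠ 0 → f u = 0 → ∃ c : F, u = c • w)
    (α : G ⧸ Subgroup.center G ≃* G' ⧸ Subgroup.center G') :
    ∃ (σ : F ≃+* F) (θ : V ≃+ V'), (∀ (a : F) x, θ (a • x) = σ a • θ x) ∧
      ∀ g g', Rel α g g' → ∃ c : F, ∀ x, θ (L.ρ g x) = c • L'.ρ g' (θ x) := by
  obtain ⟨p, hp⟩ := CharP.exists F
  have : Fact p.Prime := ⟨(CharP.char_is_prime F p)⟩
  have hQ : ∀ (f : Dual F V) (w : V), f ≠ 0 → f w = 0 → w ≠ 0 → L.Qf f = L.Qv w := by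
    intro f w hf hfw hw
    have : L.Qf f ≤ L.Qv w := by
      rintro t ⟨u, ht⟩
      obtain ⟨c, rfl⟩ := h2 f w u hf hfw hw ht.1
      exact ht.mem_Qv_smul
    exact le_antisymm this (IsM.le_of_le hT hd (Or.inr ⟨f, hf, rfl⟩) (Or.inl ⟨w, hw, rfl⟩) this)
  have hQ' : ∀ (f : Dual F V') (w : V'), f ≠ 0 → f w = 0 → w ≠ 0 → L'.Qf f = L'.Qv w := by
    intro f w hf hfw hw
    have : L'.Qf f ≤ L'.Qv w := by
      rintro t ⟨u, ht⟩
      obtain ⟨c, rfl⟩ := h2' f w u hf hfw hw ht.1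
      exact ht.mem_Qv_smul
    exact le_antisymm this (IsM.le_of_le hT' hd' (Or.inr ⟨f, hf, rfl⟩) (Or.inl ⟨w, hw, rfl⟩) this)
  have H1 : ∀ v : V, v ≠ 0 → ∃ v' : V', v' ≠ 0 ∧ Corr p α (L.Qv v) (L'.Qv v') := by
    intro v hv
    obtain ⟨A', hA', hc⟩ := exists_corr_isM (p := p) hT hd hT' hd' α (Or.inl ⟨v, hv, rfl⟩)
    rcases hA' with ⟨v', hv', rfl⟩ | ⟨f', hf', rfl⟩
    · exact ⟨v', hv', hc⟩
    · obtain ⟨w, hw, hfw⟩ := exists_ker_ne_zero hd' f'
      exact ⟨w, hw, hQ' f' w hf' hfw hw ▸ hc⟩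
  obtain ⟨w, hw⟩ := hd 0
  replace hw : w ≠ 0 := by simpa using hw 0
  obtain ⟨w', hw', hc⟩ := H1 w hw
  obtain ⟨f, hf, hfw⟩ := exists_dual_ne_zero_apply hd w
  obtain ⟨f', hf', hfw'⟩ := exists_dual_ne_zero_apply hd' w'
  have hcf : Corr p α (L.Qf f) (L'.Qf f') := by rwa [hQ f w hf hfw hw, hQ' f' w' hf' hfw' hw']
  obtain ⟨π, hπ⟩ := exists_addEquiv_ker hT hT' hf hf' hcf
  refine exists_semilinear_of_pi hT hd hT' hd' H1 hf hf' π hπ (fun a => ?_)
  have : a ∈ scalarSubring (F := F) (π : LinearMap.ker f →+ LinearMap.ker f') := by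
    rw [subring_eq_top_of_sq (scalarSubring (F := F) (π : LinearMap.ker f →+ LinearMap.ker f'))]
    · trivial
    clear a
    intro a ha
    obtain ⟨e, he⟩ := exists_apply_one hf
    obtain ⟨h, hhe, hhw⟩ := exists_dual_zero_one (F := F) (v := e) (u := w) (by
      rintro c rfl
      rw [map_smul, he, smul_eq_mul, mul_one] at hfw
      simp [hfw] at hw)
    obtain ⟨g, hg, hg'⟩ := torus_two hT he hfw hhe hhw ha
    obtain ⟨g', hr⟩ := Rel.exists_right α g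
    have hgf : L.dual.ρ g f = a • f := by
      ext x
      obtain ⟨c, hc⟩ := h2 f w (x - f x • e) hf hfw hw (by simp [he])
      have hx : x = L.ρ g ((a * f x) • e + (a⁻¹ * c) • w) := by
        rw [map_add, map_smul, map_smul, hg, hg', smul_smul, smul_smul, mul_comm a, mul_assoc,
          mul_inv_cancel₀ ha, mul_one, mul_comm a⁻¹, mul_assoc, inv_mul_cancel₀ ha, mul_one, ← hc]
        simp
      rw [dual_apply]
      conv_lhs => rw [hx]
      rw [L.inv_apply_apply]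
      simp [he, hfw]
    -- the partner acts on `w'` and `f'` by scalars
    obtain ⟨b, hb⟩ : ∃ b : F, L'.ρ g' w' = b • w' := by
      have h3 := corr_Qv_conj hc hr
      rw [hg, Qv_smul _ ha] at h3
      exact corr_Qv_unique hT' hd' h3 hc
    obtain ⟨d, hd⟩ : ∃ d : F, L'.dual.ρ g' f' = d • f' := by
      apply exists_smul_of_ker_le
      intro u hu
      obtain ⟨c, rfl⟩ := h2' f' w' u hf' hfw' hw' hu
      obtain ⟨b', hb'⟩ := swap_smul hb (L'.apply_ne_zero g' hw')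
      rw [dual_apply, hb', map_smul, map_smul, map_smul, L'.inv_apply_apply]
      simp [hfw']
    have hd0 : d ≠ 0 := by
      rintro rfl
      exact L'.dual.apply_ne_zero g' hf' (by simpa using hd)
    refine ⟨d * b, fun u => ?_⟩
    show π ((a * a) • u) = (d * b) • π u
    obtain ⟨t, ht⟩ := hT f u u.2
    obtain ⟨t', ht'⟩ := hT' f' (π u) (π u).2
    have h4 := ht.conj g
    have h5 := ht'.conj g'
    obtain ⟨c, hc⟩ := h2 f w u hf hfw hw u.2
    obtain ⟨c', hc'⟩ := h2' f' w' (π u) hf' hfw' hw' (π u).2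
    rw [hgf, show L.ρ g u = a • (u : V) by rw [hc, map_smul, hg, smul_comm]] at h4
    rw [hd, show L'.ρ g' (π u) = b • (π u : V') by rw [hc', map_smul, hb, smul_comm]] at h5
    replace h4 := h4.smul ha
    replace h5 := h5.smul hd0
    rw [smul_smul] at h4 h5
    obtain ⟨s', hs'⟩ := hT' f' (π ((a * a) • u)) (π _).2
    have h6 := L'.rel_unique (p := p) (hπ ((a * a) • u) _ _ h4 hs')
      (hr.conj (hπ u t t' ht ht')) hs'.pelt h5.pelt
    rw [← h6] at h5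
    exact Subtype.ext (hs'.unique_right h5 hf')
  exact this

/-- dimension at least three, when one centre group goes to a centre group -/
theorem exists_semilinear_three (hT : L.HasTv) (hd : ∀ w : V, ∃ u : V, ∀ c : F, u ≠ c • w)
    (hT' : L'.HasTv) (hd' : ∀ w : V', ∃ u : V', ∀ c : F, u ≠ c • w)
    (h3 : ∀ (f : Dual F V) (w : V), ∃ u : V, f u = 0 ∧ ∀ c : F, u ≠ c • w)
    {v₀ : V} {v₀' : V'} (hv₀ : v₀ ≠ 0) (hv₀' : v₀' ≠ 0) (H : Corr p α (L.Qv v₀) (L'.Qv v₀')) :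
    ∃ (σ : F ≃+* F) (θ : V ≃+ V'), (∀ (a : F) x, θ (a • x) = σ a • θ x) ∧
      ∀ g g', Rel α g g' → ∃ c : F, ∀ x, θ (L.ρ g x) = c • L'.ρ g' (θ x) := by
  have H1 : ∀ v : V, v ≠ 0 → ∃ v' : V', v' ≠ 0 ∧ Corr p α (L.Qv v) (L'.Qv v') := by
    intro v hv
    obtain ⟨g, rfl⟩ := hT.trans hd hv₀ hv
    obtain ⟨g', hr⟩ := Rel.exists_right α g
    exact ⟨_, L'.apply_ne_zero g' hv₀', corr_Qv_conj H hr⟩
  have H1' : ∀ v' : V', v' ≠ 0 → ∃ v : V, v ≠ 0 ∧ Corr p α.symm (L'.Qv v') (L.Qv v) := by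
    intro v hv
    obtain ⟨g', rfl⟩ := hT'.trans hd' hv₀' hv
    obtain ⟨g, hr⟩ := Rel.exists_left α g'
    exact ⟨_, L.apply_ne_zero g hv₀, (corr_Qv_conj H hr).symm⟩
  obtain ⟨f, hf, -⟩ := exists_dual_ne_zero_apply hd v₀
  obtain ⟨A', hA', hc⟩ := exists_corr_isM (p := p) hT hd hT' hd' α (Or.inr ⟨f, hf, rfl⟩)
  rcases hA' with ⟨v', hv', rfl⟩ | ⟨f', hf', rfl⟩
  · exfalso
    obtain ⟨v, hv, hc'⟩ := H1' v' hv'
    have := hc.symm.le_right hc' (L.isPGroup_Qf f) le_rfl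
    obtain ⟨u, hu, hu'⟩ := h3 f v
    obtain ⟨c, hc⟩ := ker_of_Qf_le_Qv hT hf this u hu
    exact hu' c hc
  obtain ⟨π, hπ⟩ := exists_addEquiv_ker hT hT' hf hf' hc
  have hcp := corr_pi hT hT' H1 hf' π hπ
  refine exists_semilinear_of_pi hT hd hT' hd' H1 hf hf' π hπ ?_
  apply forall_scalar_of_lines π
  · intro w a
    by_cases h0 : a • w = 0
    · exact ⟨0, by simp [h0]⟩
    have ha : a ≠ 0 := by rintro rfl; simp at h0
    have hw : w ≠ 0 := by rintro rfl; simp at h0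
    have h1 := hcp _ h0
    rw [Submodule.coe_smul, Qv_smul _ ha] at h1
    obtain ⟨c, hc⟩ := corr_Qv_unique hT' hd' h1 (hcp w hw)
    exact ⟨c, Subtype.ext hc⟩
  · intro w' a
    by_cases h0 : a • w' = 0
    · exact ⟨0, by simp [h0]⟩
    have ha : a ≠ 0 := by rintro rfl; simp at h0
    have hw : w' ≠ 0 := by rintro rfl; simp at h0
    have h1 := hcp (π.symm (a • w')) (by simpa using h0)
    have h2 := hcp (π.symm w') (by simpa using hw)
    rw [AddEquiv.apply_symm_apply] at h1 h2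
    rw [Submodule.coe_smul, Qv_smul _ ha] at h1
    obtain ⟨c, hc⟩ := corr_Qv_unique hT hd h1.symm h2.symm
    exact ⟨c, Subtype.ext hc⟩
  · intro w
    obtain ⟨u, hu, hu'⟩ := h3 f w
    exact ⟨⟨u, hu⟩, fun c hc => hu' c (congrArg Subtype.val hc)⟩

end LinGrp

end Cfsg.Agent.Lib.Aut
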