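import Cfsg.Agent.Lib.Aut.Basic
import Cfsg.Agent.Lib.Aut.Theta
import Cfsg.Agent.Lib.GL.FixedField
import Cfsg.Agent.Lib.Forms.WittMatrix

set_option autoImplicit false

/-! Matrix groups as `LinGrp`s, semilinear maps as matrices, Galois groups of finite fields. -/

namespace Cfsg.Agent.Lib.Aut

open Module Matrix Cfsg.Agent.Lib.GL.H90

variable {F : Type*} [Field F] {ι : Type*} [Fintype ι] [DecidableEq ι]

/-- a matrix group as a `LinGrp` -/
def matLin {G : Type*} [Group G] (j : G →* GL ι F) (hj : Function.Injective j)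
    (hc : ∀ z ∈ Subgroup.center G, ∃ c : F, ∀ v, (j z : Matrix ι ι F) *ᵥ v = c • v) :
    LinGrp F (ι → F) G where
  ρ :=
    { toFun := fun g => Matrix.toLin' (j g : Matrix ι ι F)
      map_one' := by ext; simp
      map_mul' := fun g h => by rw [map_mul, Units.val_mul, Matrix.toLin'_mul]; rfl }
  inj := fun g h H => hj (Units.ext (Matrix.toLin'.injective H))
  center_scalar := hc

@[simp] theorem matLin_apply {G : Type*} [Group G] (j : G →* GL ι F) (hj : Function.Injective j)
    (hc : ∀ z ∈ Subgroup.center G, ∃ c : F, ∀ v, (j z : Matrix ι ι F) *ᵥ v = c • v) (g : G)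
    (v : ι → F) : (matLin j hj hc).ρ g v = (j g : Matrix ι ι F) *ᵥ v := rfl

theorem exists_GL_of_semilinear (σ : F ≃+* F) (θ : (ι → F) ≃+ (ι → F))
    (hθ : ∀ (a : F) x, θ (a • x) = σ a • θ x) :
    ∃ M : GL ι F, ∀ x, θ x = (M : Matrix ι ι F) *ᵥ (fun i => σ (x i)) := by
  let e₀ : (ι → F) ≃+ (ι → F) := AddEquiv.piCongrRight fun _ => σ.symm.toAddEquiv
  let e : (ι → F) ≃ₗ[F] (ι → F) :=
    { e₀.trans θ with
      map_smul' := fun a x => by
        have : e₀ (a • x) = σ.symm a • e₀ x := by ext i; simp [e₀]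
        show θ (e₀ (a • x)) = a • θ (e₀ x)
        rw [this, hθ]; simp }
  refine ⟨Forms.glOfEquiv e, fun x => ?_⟩
  rw [Forms.glOfEquiv_mulVec]
  show θ x = θ (e₀ _)
  congr 1
  ext i; simp [e₀]

theorem mulVec_inv_mulVec (M : GL ι F) (v : ι → F) :
    (M : Matrix ι ι F) *ᵥ (((M⁻¹ : GL ι F) : Matrix ι ι F) *ᵥ v) = v := by
  rw [mulVec_mulVec, ← Units.val_mul, mul_inv_cancel, Units.val_one, one_mulVec]

theorem inv_mulVec_mulVec (M : GL ι F) (v : ι → F) :
    ((M⁻¹ : GL ι F) : Matrix ι ι F) *ᵥ ((M : Matrix ι ι F) *ᵥ v) = v := by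
  rw [mulVec_mulVec, ← Units.val_mul, inv_mul_cancel, Units.val_one, one_mulVec]

/-- from the semilinear intertwiner to the induced automorphism -/
theorem scalar_of_semilinear (σ : F ≃+* F) (M s s' g' : GL ι F) {c : F}
    (h : ∀ x : ι → F, (M : Matrix ι ι F) *ᵥ (fun i => σ (((s : Matrix ι ι F) *ᵥ x) i)) =
      c • (g' : Matrix ι ι F) *ᵥ ((M : Matrix ι ι F) *ᵥ (fun i => σ (x i))))
    (hs : s' = M * glAut ι σ s * M⁻¹) (y : ι → F) :
    (s' : Matrix ι ι F) *ᵥ y = c • (g' : Matrix ι ι F) *ᵥ y := by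
  have h1 := h (fun i => σ.symm ((((M⁻¹ : GL ι F) : Matrix ι ι F) *ᵥ y) i))
  have h2 := map_mulVec' (σ : F →+* F) (s : Matrix ι ι F)
    (fun i => σ.symm ((((M⁻¹ : GL ι F) : Matrix ι ι F) *ᵥ y) i))
  simp only [RingHom.coe_coe, RingEquiv.apply_symm_apply] at h1 h2
  rw [h2] at h1
  rw [mulVec_inv_mulVec] at h1
  rw [← h1, hs, Units.val_mul, Units.val_mul, ← mulVec_mulVec, ← mulVec_mulVec]
  rfl

theorem eq_scalar_of_mulVec {g : GL ι F} {c : F} [Nonempty ι]
    (h : ∀ v, (g : Matrix ι ι F) *ᵥ v = c • v) :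
    ∃ u : Fˣ, (u : F) = c ∧ g = GeneralLinearGroup.scalar ι u := by
  have h1 : (g : Matrix ι ι F) = c • (1 : Matrix ι ι F) := by
    apply Matrix.toLin'.injective
    ext1 i
    ext j
    simp [h]
  have hc : c ≠ 0 := by
    rintro rfl
    have := g.isUnit
    rw [h1, zero_smul] at this
    exact not_isUnit_zero this
  refine ⟨Units.mk0 c hc, rfl, Units.ext ?_⟩
  rw [h1]; simp [Matrix.smul_one_eq_diagonal]

theorem scalar_mulVec (u : Fˣ) (v : ι → F) :
    ((GeneralLinearGroup.scalar ι u : GL ι F) : Matrix ι ι F) *ᵥ v = (u : F) • v := by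
  ext i; simp [mulVec_diagonal]

theorem finite_ringAut (K : Type*) [Field K] [Finite K] : Finite (K ≃+* K) :=
  Finite.of_injective (fun f : K ≃+* K => (f : K → K)) DFunLike.coe_injective

/-- the automorphism group of a field with `p ^ f` elements is cyclic of order `f` -/
theorem ringAut_cyclic_card (K : Type*) [Field K] [Fintype K] {p f : ℕ} [Fact p.Prime]
    (hK : Fintype.card K = p ^ f) : IsCyclic (K ≃+* K) ∧ Nat.card (K ≃+* K) = f := by
  obtain ⟨p', hp'⟩ := CharP.exists K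
  have hp'p : p'.Prime := CharP.char_is_prime K p'
  have := Fact.mk hp'p
  obtain ⟨n, -, hn⟩ := FiniteField.card K p'
  have hpp : p' = p := by
    have h1 : p' ∣ p ^ f := by rw [← hK, hn]; exact dvd_pow_self _ n.ne_zero
    exact (Nat.prime_dvd_prime_iff_eq hp'p Fact.out).mp (hp'p.dvd_of_dvd_pow h1)
  subst hpp
  let : Algebra (ZMod p') K := ZMod.algebra K p'
  let e : (K ≃ₐ[ZMod p'] K) ≃* (K ≃+* K) :=
    { toFun := fun a => a.toRingEquiv
      invFun := fun σ => AlgEquiv.ofRingEquiv (f := σ) (fun x => by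
        obtain ⟨k, rfl⟩ := ZMod.natCast_zmod_surjective x
        simp)
      left_inv := fun _ => rfl
      right_inv := fun _ => rfl
      map_mul' := fun _ _ => rfl }
  refine ⟨isCyclic_of_surjective e e.surjective, ?_⟩
  rw [← Nat.card_congr e.toEquiv, IsGalois.card_aut_eq_finrank]
  have h2 := Module.card_eq_pow_finrank (K := ZMod p') (V := K)
  rw [ZMod.card, hK] at h2
  exact (Nat.pow_right_injective hp'p.two_le h2).symm

theorem charP_of_card (K : Type*) [Field K] [Fintype K] {p f : ℕ} [Fact p.Prime]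
    (hK : Fintype.card K = p ^ f) : CharP K p := by
  obtain ⟨p', hp'⟩ := CharP.exists K
  have hp'p : p'.Prime := CharP.char_is_prime K p'
  have := Fact.mk hp'p
  obtain ⟨n, -, hn⟩ := FiniteField.card K p'
  have hpp : p' = p := by
    have h1 : p' ∣ p ^ f := by rw [← hK, hn]; exact dvd_pow_self _ n.ne_zero
    exact (Nat.prime_dvd_prime_iff_eq hp'p Fact.out).mp (hp'p.dvd_of_dvd_pow h1)
  exact hpp ▸ hp'

theorem ringAut_equiv_zmod (K : Type*) [Field K] [Fintype K] {p f : ℕ} [Fact p.Prime]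
    (hK : Fintype.card K = p ^ f) : Nonempty ((K ≃+* K) ≃* Multiplicative (ZMod f)) := by
  obtain ⟨h1, h2⟩ := ringAut_cyclic_card K hK
  exact ⟨(h2 ▸ zmodCyclicMulEquiv h1).symm⟩

/-- a homomorphism from the cyclic group of order two -/
def c2Hom {M : Type*} [Monoid M] (x : M) (hx : x * x = 1) : Multiplicative (ZMod 2) →* M where
  toFun e := if e = 1 then 1 else x
  map_one' := if_pos rfl
  map_mul' a b := by
    have h : ∀ e : Multiplicative (ZMod 2), e = 1 ∨ e = Multiplicative.ofAdd 1 := by decide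
    have h1 : (Multiplicative.ofAdd 1 : Multiplicative (ZMod 2)) ≠ 1 := by decide
    have h2 : (Multiplicative.ofAdd 1 : Multiplicative (ZMod 2)) * Multiplicative.ofAdd 1 = 1 := by
      decide
    rcases h a with rfl | rfl <;> rcases h b with rfl | rfl <;> simp [h1, h2, hx]

theorem c2_cases (e : Multiplicative (ZMod 2)) : e = 1 ∨ e = Multiplicative.ofAdd 1 := by
  revert e; decide

theorem c2Hom_gen {M : Type*} [Monoid M] (x : M) (hx : x * x = 1) :
    c2Hom x hx (Multiplicative.ofAdd 1) = x := by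
  show (if (Multiplicative.ofAdd 1 : Multiplicative (ZMod 2)) = 1 then 1 else x) = x
  rw [if_neg (by decide)]

/-- the quotient of a finite cyclic group by the `n`-th powers -/
theorem card_quot_pow_range {C : Type*} [CommGroup C] [Finite C] [IsCyclic C] (n : ℕ) :
    Nat.card (C ⧸ (powMonoidHom n : C →* C).range) = Nat.gcd n (Nat.card C) := by
  rw [← Subgroup.index_eq_card, IsCyclic.index_powMonoidHom_range, Nat.gcd_comm]

end Cfsg.Agent.Lib.Aut
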