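import Cfsg.Agent.Lib.Aut.Linear3
import Cfsg.Agent.Lib.Aut.Mat

set_option autoImplicit false
set_option linter.unusedSectionVars false

/-! The automorphism group of `PSL_n(q)`. -/

namespace Cfsg.Agent.Lib.Aut.PSL

open Module Matrix Cfsg.Agent.Lib.GL.H90 SemidirectProduct

variable {F : Type*} [Field F] {ι : Type*} [Fintype ι] [DecidableEq ι]

/-- the inverse-transpose automorphism of `GL` -/
def invT (ι : Type*) [Fintype ι] [DecidableEq ι] (F : Type*) [Field F] : MulAut (GL ι F) where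
  toFun g := ⟨((g⁻¹ : GL ι F) : Matrix ι ι F)ᵀ, (g : Matrix ι ι F)ᵀ,
    by rw [← transpose_mul, Units.mul_inv, transpose_one],
    by rw [← transpose_mul, Units.inv_mul, transpose_one]⟩
  invFun g := ⟨((g⁻¹ : GL ι F) : Matrix ι ι F)ᵀ, (g : Matrix ι ι F)ᵀ,
    by rw [← transpose_mul, Units.mul_inv, transpose_one],
    by rw [← transpose_mul, Units.inv_mul, transpose_one]⟩
  left_inv g := Units.ext rfl
  right_inv g := Units.ext rfl
  map_mul' g h := Units.ext (by
    show (((g * h)⁻¹ : GL ι F) : Matrix ι ι F)ᵀ = ((g⁻¹ : GL ι F) : Matrix ι ι F)ᵀ *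
      ((h⁻¹ : GL ι F) : Matrix ι ι F)ᵀ
    rw [← transpose_mul, _root_.mul_inv_rev, Units.val_mul])

theorem coe_invT (g : GL ι F) :
    ((invT ι F g : GL ι F) : Matrix ι ι F) = ((g⁻¹ : GL ι F) : Matrix ι ι F)ᵀ := rfl

theorem coe_invT_inv (g : GL ι F) :
    (((invT ι F g)⁻¹ : GL ι F) : Matrix ι ι F) = (g : Matrix ι ι F)ᵀ := rfl

theorem invT_invT (g : GL ι F) : invT ι F (invT ι F g) = g := Units.ext rfl

theorem invT_mul_invT : invT ι F * invT ι F = 1 := by ext g : 1; exact invT_invT g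

theorem invT_glAut (σ : F ≃+* F) (g : GL ι F) : invT ι F (glAut ι σ g) = glAut ι σ (invT ι F g) :=
  Units.ext rfl

theorem invT_scalar (u : Fˣ) :
    invT ι F (GeneralLinearGroup.scalar ι u) = GeneralLinearGroup.scalar ι u⁻¹ := by
  apply Units.ext
  rw [coe_invT, ← map_inv]
  ext i k
  by_cases h : i = k
  · simp [h, -map_inv]
  · simp [h, Ne.symm h, -map_inv, -Units.val_inv_eq_inv_val]

theorem det_invT (g : GL ι F) : GeneralLinearGroup.det (invT ι F g) = (GeneralLinearGroup.det g)⁻¹ := by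
  rw [← map_inv]
  apply Units.ext
  rw [GeneralLinearGroup.val_det_apply, GeneralLinearGroup.val_det_apply, coe_invT, det_transpose]

theorem det_glAut (σ : F ≃+* F) (g : GL ι F) :
    GeneralLinearGroup.det (glAut ι σ g) = Units.map (σ : F →* F) (GeneralLinearGroup.det g) := by
  apply Units.ext
  rw [GeneralLinearGroup.val_det_apply, coe_glAut]
  exact (RingHom.map_det (σ : F →+* F) _).symm

/-- field and graph automorphisms -/
abbrev A (F : Type*) [Field F] := (F ≃+* F) × Multiplicative (ZMod 2)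

/-- the action of field and graph automorphisms on `GL` -/
def act (ι : Type*) [Fintype ι] [DecidableEq ι] (F : Type*) [Field F] : A F →* MulAut (GL ι F) :=
  (glAutHom ι).noncommCoprod (c2Hom (invT ι F) invT_mul_invT) (fun σ e => by
    rcases c2_cases e with rfl | rfl
    · simp
    · rw [c2Hom_gen]
      ext g : 1
      exact (invT_glAut σ g).symm)

theorem act_fld (σ : F ≃+* F) (g : GL ι F) : act ι F (σ, 1) g = glAut ι σ g := by
  simp [act, glAutHom]

theorem act_graph (σ : F ≃+* F) (g : GL ι F) :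
    act ι F (σ, Multiplicative.ofAdd 1) g = glAut ι σ (invT ι F g) := by
  simp [act, glAutHom, c2Hom_gen]

/-- the extended group -/
abbrev Gam (ι : Type*) [Fintype ι] [DecidableEq ι] (F : Type*) [Field F] :=
  GL ι F ⋊[act ι F] A F

/-- the embedding of `SL` -/
def j (ι : Type*) [Fintype ι] [DecidableEq ι] (F : Type*) [Field F] :
    SpecialLinearGroup ι F →* Gam ι F := inl.comp SpecialLinearGroup.toGL

theorem toGL_inj : Function.Injective
    (SpecialLinearGroup.toGL : SpecialLinearGroup ι F →* GL ι F) := SpecialLinearGroup.toGL_injective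

theorem j_inj : Function.Injective (j ι F) := inl_injective.comp toGL_inj

theorem conj_inl (a : Gam ι F) (g : GL ι F) :
    a * inl g * a⁻¹ = inl (a.left * act ι F a.right g * a.left⁻¹) := by
  ext <;> simp

theorem exists_toGL {g : GL ι F} (h : GeneralLinearGroup.det g = 1) :
    ∃ s : SpecialLinearGroup ι F, SpecialLinearGroup.toGL s = g :=
  ⟨⟨g, by simpa using congrArg Units.val h⟩, Units.ext rfl⟩

theorem det_toGL (s : SpecialLinearGroup ι F) :
    GeneralLinearGroup.det (SpecialLinearGroup.toGL s) = 1 := by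
  apply Units.ext; simp

theorem det_act_eq_one (a : A F) {g : GL ι F} (h : GeneralLinearGroup.det g = 1) :
    GeneralLinearGroup.det (act ι F a g) = 1 := by
  obtain ⟨σ, e⟩ := a
  rcases c2_cases e with rfl | rfl
  · rw [act_fld, det_glAut, h, map_one]
  · rw [act_graph, det_glAut, det_invT, h, inv_one, map_one]

theorem hk (a : Gam ι F) :
    MonoidHom.id _ a ∈ Subgroup.normalizer ((j ι F).range : Set (Gam ι F)) := by
  apply mem_normalizer_of_forall
  rintro a _ ⟨s, rfl⟩
  obtain ⟨s', hs'⟩ := exists_toGL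
    (g := a.left * act ι F a.right (SpecialLinearGroup.toGL s) * a.left⁻¹)
    (by rw [map_mul, map_mul, det_act_eq_one _ (det_toGL s)]; simp)
  exact ⟨s', by rw [MonoidHom.id_apply, j, MonoidHom.comp_apply, MonoidHom.comp_apply, conj_inl, hs']⟩

/-- the automorphisms of `PSL` induced by the extended group -/
noncomputable def Θ (ι : Type*) [Fintype ι] [DecidableEq ι] (F : Type*) [Field F] :
    Gam ι F →* MulAut (ProjectiveSpecialLinearGroup ι F) :=
  theta (j ι F) j_inj (MonoidHom.id _) hk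

theorem j_eq_iff (a : Gam ι F) (s s' : SpecialLinearGroup ι F) :
    j ι F s' = a * j ι F s * a⁻¹ ↔ SpecialLinearGroup.toGL s' =
      a.left * act ι F a.right (SpecialLinearGroup.toGL s) * a.left⁻¹ := by
  rw [j, MonoidHom.comp_apply, MonoidHom.comp_apply, conj_inl, inl_inj]

theorem eq_Θ_iff (a : Gam ι F) (β : MulAut (ProjectiveSpecialLinearGroup ι F)) :
    β = Θ ι F a ↔ ∀ s s' : SpecialLinearGroup ι F, SpecialLinearGroup.toGL s' =
      a.left * act ι F a.right (SpecialLinearGroup.toGL s) * a.left⁻¹ →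
      β (QuotientGroup.mk s) = QuotientGroup.mk s' := by
  constructor
  · rintro rfl s s' h
    exact theta_mk _ _ _ _ a s s' ((j_eq_iff a s s').mpr h)
  · intro h
    exact eq_theta _ _ _ _ a β fun s s' hs => h s s' ((j_eq_iff a s s').mp hs)

theorem exists_conj (a : Gam ι F) (s : SpecialLinearGroup ι F) :
    ∃ s' : SpecialLinearGroup ι F, SpecialLinearGroup.toGL s' =
      a.left * act ι F a.right (SpecialLinearGroup.toGL s) * a.left⁻¹ := by
  obtain ⟨s', h⟩ := theta_exists (j ι F) (MonoidHom.id _) hk a s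
  exact ⟨s', (j_eq_iff a s s').mp h⟩

theorem Θ_j (s : SpecialLinearGroup ι F) :
    Θ ι F (inl (SpecialLinearGroup.toGL s)) = MulAut.conj (QuotientGroup.mk s) :=
  theta_eq_conj _ _ _ _ _ s rfl

/-- `SL` as a `LinGrp` -/
def L (ι : Type*) [Fintype ι] [DecidableEq ι] (F : Type*) [Field F] :
    LinGrp F (ι → F) (SpecialLinearGroup ι F) :=
  matLin SpecialLinearGroup.toGL toGL_inj (fun z hz => by
    obtain ⟨r, -, hr⟩ := Matrix.SpecialLinearGroup.mem_center_iff.mp hz
    refine ⟨r, fun v => ?_⟩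
    show (z : Matrix ι ι F) *ᵥ v = _
    rw [← hr]
    ext i; simp [mulVec_diagonal])

theorem L_apply (s : SpecialLinearGroup ι F) (v : ι → F) :
    (L ι F).ρ s v = (s : Matrix ι ι F) *ᵥ v := rfl

theorem hasTv : (L ι F).HasTv := by
  intro f v hfv
  refine ⟨⟨LinearMap.toMatrix' (LinearMap.transvection f v), ?_⟩, hfv, fun x => ?_⟩
  · rw [LinearMap.det_toMatrix', LinearMap.transvection.det, hfv, add_zero]
  · show LinearMap.toMatrix' (LinearMap.transvection f v) *ᵥ x = _
    simp [LinearMap.toMatrix'_mulVec, LinearMap.transvection.apply]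

/-- the inverse-transpose automorphism of `SL` -/
noncomputable def invTSL (ι : Type*) [Fintype ι] [DecidableEq ι] (F : Type*) [Field F] :
    MulAut (SpecialLinearGroup ι F) :=
  normAut (j ι F) j_inj ⟨inr (1, Multiplicative.ofAdd 1), hk _⟩

theorem toGL_invTSL (s : SpecialLinearGroup ι F) :
    SpecialLinearGroup.toGL (invTSL ι F s) = invT ι F (SpecialLinearGroup.toGL s) := by
  have := normAut_spec (j ι F) j_inj ⟨inr (1, Multiplicative.ofAdd 1), hk _⟩ s
  rw [j_eq_iff] at this
  rw [invTSL, this]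
  simp [act_graph, glAut_one]

theorem Θ_graph_mk (s : SpecialLinearGroup ι F) :
    Θ ι F (inr (1, Multiplicative.ofAdd 1)) (QuotientGroup.mk s) = QuotientGroup.mk (invTSL ι F s) :=
  rfl

theorem hd_of_card (h : 2 ≤ Fintype.card ι) (w : ι → F) : ∃ u : ι → F, ∀ c : F, u ≠ c • w := by
  by_contra hc
  push Not at hc
  have : finrank F (ι → F) ≤ 1 := finrank_le_one w fun u => by
    obtain ⟨c, hc⟩ := hc u
    exact ⟨c, hc.symm⟩
  simp at this
  omega

theorem h3_of_card (h : 3 ≤ Fintype.card ι) (f : Dual F (ι → F)) (w : ι → F) :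
    ∃ u : ι → F, f u = 0 ∧ ∀ c : F, u ≠ c • w := by
  by_contra hc
  push Not at hc
  have h1 : LinearMap.ker f ≤ Submodule.span F {w} := fun u hu => by
    obtain ⟨c, hc⟩ := hc u hu
    exact Submodule.mem_span_singleton.mpr ⟨c, hc.symm⟩
  have h2 := Submodule.finrank_mono h1
  have h3 := finrank_span_le_card (R := F) ({w} : Set (ι → F))
  have h4 := LinearMap.finrank_range_add_finrank_ker f
  have h5 := Submodule.finrank_le (LinearMap.range f)
  simp at h3 h4 h5
  omega

theorem h2_of_card (h : Fintype.card ι = 2) (f : Dual F (ι → F)) (w u : ι → F) (hf : f ≠ 0)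
    (hw : f w = 0) (hw0 : w ≠ 0) (hu : f u = 0) : ∃ c : F, u = c • w := by
  have h4 := LinearMap.finrank_range_add_finrank_ker f
  have h5 : finrank F (LinearMap.range f) ≠ 0 := by
    rw [Ne, Submodule.finrank_eq_zero, LinearMap.range_eq_bot]; exact hf
  have h6 : finrank F (LinearMap.ker f) ≤ 1 := by
    simp at h4
    omega
  obtain ⟨v, hv⟩ := finrank_le_one_iff.mp h6
  obtain ⟨a, ha⟩ := hv ⟨w, hw⟩
  obtain ⟨b, hb⟩ := hv ⟨u, hu⟩
  obtain ⟨d, hd⟩ := LinGrp.swap_smul (congrArg Subtype.val ha).symm hw0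
  refine ⟨b * d, ?_⟩
  have : u = b • (v : ι → F) := (congrArg Subtype.val hb).symm
  rw [this, mul_smul]
  exact congrArg _ hd

theorem eq_Θ_of_semilinear (β : MulAut (ProjectiveSpecialLinearGroup ι F))
    (h : ∃ (σ : F ≃+* F) (θ : (ι → F) ≃+ (ι → F)), (∀ (a : F) x, θ (a • x) = σ a • θ x) ∧
      ∀ g g', Rel β g g' → ∃ c : F, ∀ x, θ ((L ι F).ρ g x) = c • (L ι F).ρ g' (θ x)) :
    ∃ (g : GL ι F) (σ : F ≃+* F), β = Θ ι F ⟨g, (σ, 1)⟩ := by
  obtain ⟨σ, θ, hθ, h⟩ := h
  obtain ⟨M, hM⟩ := exists_GL_of_semilinear σ θ hθ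
  refine ⟨M, σ, (eq_Θ_iff _ _).mpr fun s s' hs => ?_⟩
  obtain ⟨g', hg'⟩ := Rel.exists_right β s
  obtain ⟨c, hc⟩ := h s g' hg'
  rw [act_fld] at hs
  refine hg'.trans ((L ι F).mk_eq_of_scalar (c := c) ?_).symm
  exact scalar_of_semilinear σ M (SpecialLinearGroup.toGL s) (SpecialLinearGroup.toGL s')
    (SpecialLinearGroup.toGL g') (fun x => by
      have := hc x
      rw [hM, hM] at this
      exact this) hs

instance finiteSL [Finite F] : Finite (SpecialLinearGroup ι F) :=
  inferInstanceAs (Finite {A : Matrix ι ι F // A.det = 1})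

theorem surj_two [Finite F] (h : Fintype.card ι = 2)
    (β : MulAut (ProjectiveSpecialLinearGroup ι F)) :
    ∃ (g : GL ι F) (σ : F ≃+* F), β = Θ ι F ⟨g, (σ, 1)⟩ :=
  eq_Θ_of_semilinear β (LinGrp.exists_semilinear_two hasTv (hd_of_card h.ge) hasTv
    (hd_of_card h.ge) (h2_of_card h) (h2_of_card h) β)

theorem invTSL_isTv {s : SpecialLinearGroup ι F} {u v : ι → F}
    (h : (L ι F).IsTv s (dotProductBilin F F u) v) :
    (L ι F).IsTv (invTSL ι F s) (dotProductBilin F F (-v)) u := by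
  refine ⟨by simpa [dotProduct_comm] using h.1, fun x => ?_⟩
  have h1 : ((s⁻¹ : SpecialLinearGroup ι F) : Matrix ι ι F) = 1 - vecMulVec v u := by
    apply Matrix.toLin'.injective
    apply LinearMap.ext
    intro y
    have := h.inv_aux y
    rw [L_apply] at this
    rw [toLin'_apply, this, toLin'_apply, sub_mulVec, one_mulVec, vecMulVec_mulVec]
    simp
  have h2 : ((invTSL ι F s : SpecialLinearGroup ι F) : Matrix ι ι F) = (1 - vecMulVec v u)ᵀ := by
    rw [← h1]
    have := congrArg Units.val (toGL_invTSL s)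
    rw [coe_invT, ← map_inv] at this
    exact this
  rw [L_apply, h2, transpose_sub, transpose_one, transpose_vecMulVec, sub_mulVec, one_mulVec,
    vecMulVec_mulVec]
  simp [sub_eq_add_neg]

theorem exists_dot (f : Dual F (ι → F)) : ∃ u : ι → F, f = dotProductBilin F F u := by
  refine ⟨fun i => f (Pi.single i 1), ?_⟩
  ext i
  simp

theorem invTSL_invTSL (s : SpecialLinearGroup ι F) : invTSL ι F (invTSL ι F s) = s :=
  toGL_inj (by rw [toGL_invTSL, toGL_invTSL, invT_invT])

theorem invTSL_mem_Qv (s : SpecialLinearGroup ι F) (u : ι → F) :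
    invTSL ι F s ∈ (L ι F).Qv u ↔ s ∈ (L ι F).Qf (dotProductBilin F F u) := by
  constructor
  · rintro ⟨f, hf⟩
    obtain ⟨v, rfl⟩ := exists_dot f
    have := invTSL_isTv hf
    rw [invTSL_invTSL, map_neg, ← neg_one_smul F] at this
    exact this.mem_Qf_smul
  · rintro ⟨v, hv⟩
    exact ⟨_, invTSL_isTv hv⟩

theorem surj_three [Finite F] (h : 3 ≤ Fintype.card ι)
    (β : MulAut (ProjectiveSpecialLinearGroup ι F)) : ∃ a, β = Θ ι F a := by
  obtain ⟨p, hp⟩ := CharP.exists F
  have : Fact p.Prime := ⟨(CharP.char_is_prime F p)⟩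
  have hd := hd_of_card (F := F) (ι := ι) (by omega)
  obtain ⟨v, hv⟩ := hd 0
  replace hv : v ≠ 0 := by simpa using hv 0
  obtain ⟨A', hA', hc⟩ := LinGrp.exists_corr_isM (p := p) hasTv hd hasTv hd β
    (Or.inl ⟨v, hv, rfl⟩)
  rcases hA' with ⟨v', hv', rfl⟩ | ⟨f', hf', rfl⟩
  · obtain ⟨g, σ, hg⟩ := eq_Θ_of_semilinear β
      (LinGrp.exists_semilinear_three hasTv hd hasTv hd (h3_of_card h) hv hv' hc)
    exact ⟨_, hg⟩
  · obtain ⟨u, rfl⟩ := exists_dot f'
    have hu : u ≠ 0 := by rintro rfl; simp at hf'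
    let γ := Θ ι F (inr (1, Multiplicative.ofAdd 1))
    have hc' : Corr p (γ * β) ((L ι F).Qv v) ((L ι F).Qv u) := by
      intro g g' hr hp hp'
      rw [← invTSL_invTSL g', invTSL_mem_Qv]
      apply hc g _ _ hp (hp'.map (invTSL ι F).toMonoidHom)
      apply γ.injective
      show _ = γ (QuotientGroup.mk (invTSL ι F g'))
      rw [Θ_graph_mk, invTSL_invTSL]
      exact hr
    obtain ⟨g, σ, hg⟩ := eq_Θ_of_semilinear (γ * β)
      (LinGrp.exists_semilinear_three hasTv hd hasTv hd (h3_of_card h) hv hu hc')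
    exact ⟨(inr (1, Multiplicative.ofAdd 1))⁻¹ * ⟨g, (σ, 1)⟩, by rw [map_mul, map_inv, ← hg]; simp [γ]⟩

theorem Θ_surjective [Finite F] (h : 2 ≤ Fintype.card ι) : Function.Surjective (Θ ι F) := by
  intro β
  rcases h.eq_or_lt with h | h
  · obtain ⟨g, σ, hg⟩ := surj_two h.symm β
    exact ⟨_, hg.symm⟩
  · obtain ⟨a, ha⟩ := surj_three h β
    exact ⟨a, ha.symm⟩

end Cfsg.Agent.Lib.Aut.PSL
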