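import Cfsg.Agent.Lib.Aut.PSLTw

set_option autoImplicit false
set_option linter.unusedSectionVars false

/-! Centralisers of field and graph-field automorphisms of `PSL_n`. -/

namespace Cfsg.Agent.Lib.Aut

open Module Matrix Cfsg.Agent.Lib.GL.H90 SemidirectProduct

variable {F : Type*} [Field F] {ι : Type*} [Fintype ι] [DecidableEq ι]

theorem det_map' {F₀ : Type*} [Field F₀] (f : F₀ →+* F) (g : GL ι F₀) :
    GeneralLinearGroup.det (GeneralLinearGroup.map f g) =
      Units.map (f : F₀ →* F) (GeneralLinearGroup.det g) := by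
  apply Units.ext
  simp only [GeneralLinearGroup.val_det_apply, Units.coe_map, MonoidHom.coe_coe, RingHom.map_det]
  rfl

theorem range_det_map [Nonempty ι] {F₀ : Type*} [Field F₀] (f : F₀ →+* F) :
    (GeneralLinearGroup.det.comp (GeneralLinearGroup.map (n := ι) f)).range =
      (Units.map (f : F₀ →* F)).range := by
  ext u
  constructor
  · rintro ⟨g, rfl⟩; exact ⟨_, (det_map' f g).symm⟩
  · rintro ⟨u, rfl⟩
    obtain ⟨g, rfl⟩ := GeneralLinearGroup.det_surjective (n := ι) u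
    exact ⟨g, det_map' f g⟩

theorem mem_scalars_iff' {ι : Type} [Fintype ι] [DecidableEq ι] (g : GL ι F) :
    g ∈ Geo.scalars ι F ↔ ∃ u, g = GeneralLinearGroup.scalar ι u :=
  ⟨fun ⟨u, hu⟩ => ⟨u, hu.symm⟩, fun ⟨u, hu⟩ => ⟨u, hu.symm⟩⟩

/-- the diagonal matrix with one entry `u` and the others `1` -/
def diagU (i : ι) (u : Fˣ) : GL ι F :=
  ⟨diagonal (Pi.mulSingle i (u : F)), diagonal (Pi.mulSingle i ((u⁻¹ : Fˣ) : F)),
    by rw [diagonal_mul_diagonal, ← diagonal_one]; congr 1; ext j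
       by_cases h : j = i <;> simp [h],
    by rw [diagonal_mul_diagonal, ← diagonal_one]; congr 1; ext j
       by_cases h : j = i <;> simp [h]⟩

theorem det_diagU (i : ι) (u : Fˣ) : GeneralLinearGroup.det (diagU i u) = u := by
  apply Units.ext
  simp [diagU, Finset.prod_pi_mulSingle']

theorem diagU_mem_GU {n q : ℕ} {σ : F ≃+* F} (hσ : ∀ a, σ a = a ^ q) (i : Fin n) (u : Fˣ)
    (hu : u ^ (q + 1) = 1) : diagU i u ∈ GU n F q := by
  rw [mem_GU_iff hσ]
  have h : (u : F) * σ u = 1 := by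
    rw [hσ, ← pow_succ']; exact congrArg Units.val hu
  show (diagonal _)ᵀ * (diagonal _).map σ = 1
  rw [diagonal_transpose, diagonal_map (map_zero σ), diagonal_mul_diagonal, ← diagonal_one]
  congr 1; ext j
  by_cases hj : j = i <;> simp [hj, h]

theorem det_pow_of_mem_GU {n q : ℕ} {σ : F ≃+* F} (hσ : ∀ a, σ a = a ^ q) {g : GL (Fin n) F}
    (hg : g ∈ GU n F q) : GeneralLinearGroup.det g ^ (q + 1) = 1 := by
  rw [mem_GU_iff hσ] at hg
  have := congrArg det hg
  rw [det_mul, det_transpose, det_one] at this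
  apply Units.ext
  rw [Units.val_pow_eq_pow_val, pow_succ', ← hσ, GeneralLinearGroup.val_det_apply, Units.val_one,
    ← this]
  congr 1
  exact RingHom.map_det (σ : F →+* F) _

theorem range_det_GU {n q : ℕ} (hn : 0 < n) {σ : F ≃+* F} (hσ : ∀ a, σ a = a ^ q) :
    (GeneralLinearGroup.det.comp (GU n F q).subtype).range =
      (powMonoidHom (q + 1) : Fˣ →* Fˣ).ker := by
  ext u
  constructor
  · rintro ⟨g, rfl⟩; exact det_pow_of_mem_GU hσ g.2
  · intro hu
    exact ⟨⟨diagU ⟨0, hn⟩ u, diagU_mem_GU hσ _ u hu⟩, det_diagU _ _⟩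

theorem index_ker_pow [Fintype F] {q : ℕ} (hF : Fintype.card F = q ^ 2) :
    (powMonoidHom (q + 1) : Fˣ →* Fˣ).ker.index = q - 1 := by
  rw [IsCyclic.index_powMonoidHom_ker, Nat.card_units, Nat.card_eq_fintype_card, hF]
  have : q ^ 2 - 1 = (q + 1) * (q - 1) := by
    rw [← Nat.sq_sub_sq, one_pow]
  rw [this, Nat.gcd_mul_right_left, Nat.mul_div_cancel_left _ (Nat.succ_pos q)]

theorem card_ker_pow [Fintype F] {q : ℕ} (hF : Fintype.card F = q ^ 2) :
    Nat.card (powMonoidHom (q + 1) : Fˣ →* Fˣ).ker = q + 1 := by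
  rw [IsCyclic.card_powMonoidHom_ker, Nat.card_units, Nat.card_eq_fintype_card, hF]
  have : q ^ 2 - 1 = (q + 1) * (q - 1) := by
    rw [← Nat.sq_sub_sq, one_pow]
  rw [this, Nat.gcd_mul_right_left]

namespace PSL

theorem range_fld [Finite F] (h : 2 ≤ Fintype.card ι) {F₀ : Type*} [Field F₀] (σ : F ≃+* F)
    (f : F₀ →+* F) (hf : ∀ x, σ x = x ↔ x ∈ f.range) :
    ((ψ ι F).comp (GeneralLinearGroup.map f)).range =
      (ψ ι F).range ⊓ Subgroup.centralizer {Θ ι F (inr (σ, 1))} := by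
  have : Nonempty ι := Fintype.card_pos_iff.mp (by omega)
  refine twist_range_eq _ _ _ (inr_conj_ψ (σ, 1)) _ (fun g => ?_) (fun d hd => ?_)
  · rw [act_fld, (glAut_map_of_fixed σ f hf _).mpr ⟨g, rfl⟩, inv_mul_cancel, map_one]
  · rw [act_fld, ψ_eq_one_iff h] at hd
    obtain ⟨u, hu⟩ := hd
    obtain ⟨c, hc⟩ := exists_scalar_mul_fixed σ d u hu
    obtain ⟨g, hg⟩ := (glAut_map_of_fixed σ f hf _).mp hc
    exact ⟨g, by rw [hg, map_mul, ψ_scalar, one_mul]⟩

theorem ker_fld_map [Finite F] (h : 2 ≤ Fintype.card ι) {F₀ : Type*} [Field F₀] (f : F₀ →+* F) :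
    ((ψ ι F).comp (GeneralLinearGroup.map f)).ker = Subgroup.center (GL ι F₀) := by
  have : Nonempty ι := Fintype.card_pos_iff.mp (by omega)
  ext g
  rw [MonoidHom.mem_ker, MonoidHom.comp_apply, ψ_eq_one_iff h,
    GeneralLinearGroup.center_eq_range_scalar]
  constructor
  · rintro ⟨u, hu⟩
    obtain ⟨u₀, h₀⟩ := map_eq_scalar f g u hu
    exact ⟨u₀, h₀.symm⟩
  · rintro ⟨u, rfl⟩
    exact ⟨_, map_scalar' f u⟩

theorem range_graphfld [Finite F] {n q : ℕ} (h : 2 ≤ n) {σ : F ≃+* F} (hσ2 : orderOf σ = 2)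
    (hσ : ∀ a, σ a = a ^ q) : ((ψ (Fin n) F).comp (GU n F q).subtype).range =
      (ψ (Fin n) F).range ⊓
        Subgroup.centralizer {Θ (Fin n) F (inr (σ, Multiplicative.ofAdd 1))} := by
  have : Nonempty (Fin n) := ⟨⟨0, by omega⟩⟩
  have key : ∀ g : GL (Fin n) F, g ∈ GU n F q ↔ act (Fin n) F (σ, Multiplicative.ofAdd 1) g = g := by
    intro g
    rw [mem_GU_iff' hσ, act_graph]
    have k : ∀ g : GL (Fin n) F, glAut (Fin n) σ (glAut (Fin n) σ g) = g := fun g => by
      ext i j; exact sq_of_orderOf_two hσ2 _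
    exact ⟨fun h => by rw [h, k], fun h => by rw [← k (invT _ _ g), h]⟩
  refine twist_range_eq _ _ _ (inr_conj_ψ _) _ (fun g => ?_) (fun d hd => ?_)
  · rw [Subgroup.subtype_apply, (key _).mp g.2, inv_mul_cancel, map_one]
  · rw [ψ_eq_one_iff (by simpa using h)] at hd
    obtain ⟨u, hu⟩ := hd
    rw [inv_mul_eq_iff_eq_mul] at hu
    have h1 := act_graph_sq hσ2 d
    rw [hu, map_mul, hu, act_graph_scalar, mul_assoc, mul_eq_left, ← map_mul,
      ← map_one (GeneralLinearGroup.scalar (Fin n))] at h1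
    have h2 : σ u = u := (congrArg Units.val (mul_inv_eq_one.mp (scalar_inj h1))).symm
    obtain ⟨c, hc0, hc⟩ := exists_mul_map_eq hσ2 u.ne_zero h2
    refine ⟨⟨GeneralLinearGroup.scalar _ (Units.mk0 c hc0) * d, (key _).mpr ?_⟩, ?_⟩
    · rw [map_mul, hu, act_graph_scalar, ← GL.H90.scalar_comm u d, ← mul_assoc, ← map_mul]
      congr 2
      ext
      have h4 : σ c ≠ 0 := by simpa using hc0
      simp only [Units.val_mul, Units.val_mk0, Units.val_inv_eq_inv_val, Units.coe_map,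
        MonoidHom.coe_coe, ← hc]
      field_simp
    · rw [Subgroup.subtype_apply, map_mul, ψ_scalar, one_mul]

theorem ker_subtype [Finite F] {n : ℕ} (h : 2 ≤ n) (H : Subgroup (GL (Fin n) F)) :
    ((ψ (Fin n) F).comp H.subtype).ker = (Geo.scalars (Fin n) F).subgroupOf H := by
  ext g
  rw [MonoidHom.mem_ker, MonoidHom.comp_apply, ψ_eq_one_iff (by simpa using h),
    Subgroup.mem_subgroupOf, mem_scalars_iff']
  rfl

theorem A_comm [Finite F] (a b : A F) : a * b = b * a :=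
  Prod.ext (ringAut_comm _ _) (mul_comm _ _)

theorem exists_conj_eq_mul [Finite F] (h : 2 ≤ Fintype.card ι)
    (α : MulAut (ProjectiveSpecialLinearGroup ι F)) (a : Gam ι F) :
    ∃ g, α * Θ ι F a * α⁻¹ = ψ ι F g * Θ ι F (inr a.right) := by
  obtain ⟨b, rfl⟩ := Θ_surjective h α
  refine ⟨(b * a * b⁻¹).left, ?_⟩
  rw [ψ_apply, ← map_inv, ← map_mul, ← map_mul, ← map_mul]
  congr 1
  conv_lhs => rw [← inl_left_mul_inr_right (b * a * b⁻¹)]
  congr 2
  simp only [mul_right, inv_right]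
  rw [A_comm b.right, mul_inv_cancel_right]

theorem inn_normal {T : Type*} [Group T] : (Inn T).Normal := inferInstance

end PSL

end Cfsg.Agent.Lib.Aut
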