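import Cfsg.Agent.Lib.Aut.PSL

set_option autoImplicit false
set_option linter.unusedSectionVars false

/-! The kernel of `Θ` for `PSL_n`, and the named classes of automorphisms. -/

namespace Cfsg.Agent.Lib.Aut.PSL

open Module Matrix Cfsg.Agent.Lib.GL.H90 SemidirectProduct

variable {F : Type*} [Field F] {ι : Type*} [Fintype ι] [DecidableEq ι]

theorem act_scalar (a : A F) (u : Fˣ) :
    ∃ u' : Fˣ, act ι F a (GeneralLinearGroup.scalar ι u) = GeneralLinearGroup.scalar ι u' := by
  obtain ⟨σ, e⟩ := a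
  rcases c2_cases e with rfl | rfl
  · exact ⟨_, by rw [act_fld, glAut_scalar]⟩
  · exact ⟨_, by rw [act_graph, invT_scalar, glAut_scalar]⟩

theorem Θ_scalar (u : Fˣ) : Θ ι F (inl (GeneralLinearGroup.scalar ι u)) = 1 := by
  symm
  rw [eq_Θ_iff]
  intro s s' h
  simp only [left_inl, right_inl, map_one, MulAut.one_apply] at h
  rw [GL.H90.scalar_comm, mul_inv_cancel_right] at h
  rw [toGL_inj h]; rfl

/-- the elementary transvection as an element of `SL` -/
def tv (i k : ι) (h : i ≠ k) (c : F) : SpecialLinearGroup ι F :=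
  ⟨Matrix.transvection i k c, det_transvection_of_ne i k h c⟩

theorem coe_tv (i k : ι) (h : i ≠ k) (c : F) :
    ((SpecialLinearGroup.toGL (tv i k h c) : GL ι F) : Matrix ι ι F) = 1 + single i k c := rfl

theorem coe_tv_inv (i k : ι) (h : i ≠ k) (c : F) :
    (((SpecialLinearGroup.toGL (tv i k h c))⁻¹ : GL ι F) : Matrix ι ι F) = 1 + single i k (-c) := by
  have : (SpecialLinearGroup.toGL (tv i k h c))⁻¹ = SpecialLinearGroup.toGL (tv i k h (-c)) := by
    rw [inv_eq_iff_mul_eq_one]
    apply Units.ext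
    show Matrix.transvection i k c * Matrix.transvection i k (-c) = 1
    rw [transvection_mul_transvection_same _ _ h]; simp
  rw [this]; rfl

theorem tv_pelt {p : ℕ} [Fact p.Prime] [CharP F p] (i k : ι) (h : i ≠ k) (c : F) :
    PElt p (tv i k h c) := by
  apply (L ι F).pelt_of_nilpotent 2
  have : (L ι F).ρ (tv i k h c) - 1 = Matrix.toLin' (single i k c) := by
    ext1 x; ext y
    show ((1 + single i k c : Matrix ι ι F) *ᵥ _) y - _ = _
    rw [add_mulVec, one_mulVec]; simp
  rw [this, pow_two, Module.End.mul_eq_comp, ← Matrix.toLin'_mul, single_mul_single_of_ne _ _ _ _ h.symm]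
  simp

theorem conj_tv_of_Θ_eq_one [Finite F] {a : Gam ι F} (ha : Θ ι F a = 1) (i k : ι) (h : i ≠ k)
    (c : F) : a.left * act ι F a.right (SpecialLinearGroup.toGL (tv i k h c)) =
      SpecialLinearGroup.toGL (tv i k h c) * a.left := by
  obtain ⟨p, hp⟩ := CharP.exists F
  have : Fact p.Prime := ⟨(CharP.char_is_prime F p)⟩
  obtain ⟨s', hs'⟩ := exists_conj a (tv i k h c)
  have h1 := (eq_Θ_iff a 1).mp ha.symm _ _ hs'
  have hp' : PElt p s' := by
    obtain ⟨m, hm⟩ := ((tv_pelt (p := p) i k h c).map ((act ι F a.right).toMonoidHom.comp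
      SpecialLinearGroup.toGL)).conj a.left
    refine ⟨m, toGL_inj ?_⟩
    rw [map_pow, hs', map_one]
    exact hm
  have := (L ι F).eq_of_mk_eq (tv_pelt i k h c) hp' h1
  rw [← this] at hs'
  rw [eq_mul_inv_iff_mul_eq] at hs'
  exact hs'.symm

theorem ker_fld [Finite F] (h : 2 ≤ Fintype.card ι) {g : GL ι F} {σ : F ≃+* F}
    (ha : Θ ι F ⟨g, (σ, 1)⟩ = 1) : σ = 1 ∧ ∃ u, g = GeneralLinearGroup.scalar ι u := by
  have key : ∀ i k (hik : i ≠ k) (c : F), (g : Matrix ι ι F) * single i k (σ c) = single i k c * (g : Matrix ι ι F) := by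
    intro i k hik c
    have := congrArg Units.val (conj_tv_of_Θ_eq_one ha i k hik c)
    rw [act_fld, Units.val_mul, Units.val_mul, coe_glAut, coe_tv] at this
    have h2 : (1 + single i k c : Matrix ι ι F).map σ = 1 + single i k (σ c) := by
      ext a b
      simp only [map_apply, Matrix.add_apply, map_add, one_apply, single_apply]
      split_ifs <;> simp
    rw [h2, mul_add, add_mul] at this
    simpa using this
  have h1 : g ∈ Subgroup.center (GL ι F) := by
    rw [GeneralLinearGroup.mem_center_iff_val_mem_range_scalar]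
    apply mem_range_scalar_of_commute_single
    intro i k hik
    have := key i k hik 1
    rw [map_one] at this
    exact this.symm
  rw [GeneralLinearGroup.center_eq_range_scalar] at h1
  obtain ⟨u, rfl⟩ := h1
  refine ⟨?_, u, rfl⟩
  have : Nontrivial ι := Fintype.one_lt_card_iff_nontrivial.mp h
  obtain ⟨i, k, hik⟩ := exists_pair_ne ι
  ext c
  have := congrFun (congrFun (key i k hik c) i) k
  have h3 : (u : F) * σ c = c * u := by simpa using this
  rw [mul_comm c] at h3
  exact mul_left_cancel₀ u.ne_zero h3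

theorem ker_graph [Finite F] (h : 3 ≤ Fintype.card ι) {g : GL ι F} {σ : F ≃+* F}
    (ha : Θ ι F ⟨g, (σ, Multiplicative.ofAdd 1)⟩ = 1) : False := by
  have key : ∀ i k (hik : i ≠ k), (g : Matrix ι ι F) * single k i (-1) = single i k 1 * (g : Matrix ι ι F) := by
    intro i k hik
    have := congrArg Units.val (conj_tv_of_Θ_eq_one ha i k hik 1)
    rw [act_graph, Units.val_mul, Units.val_mul, coe_glAut, coe_invT, coe_tv_inv, coe_tv] at this
    have h2 : (1 + single i k (-1) : Matrix ι ι F)ᵀ.map σ = 1 + single k i (-1) := by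
      ext a b
      simp only [map_apply, transpose_apply, Matrix.add_apply, map_add, one_apply, single_apply, eq_comm,
        and_comm]
      split_ifs <;> simp
    rw [h2, mul_add, add_mul] at this
    simpa using this
  have : (g : Matrix ι ι F) = 0 := by
    ext a k
    obtain ⟨i, hia, hik⟩ : ∃ i, i ≠ a ∧ i ≠ k := by
      by_contra hc
      push Not at hc
      have : (Finset.univ : Finset ι) ⊆ {a, k} := fun i _ => by
        by_cases h : i = a
        · simp [h]
        · simp [hc i h]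
      have h2 := (Finset.card_le_card this).trans Finset.card_le_two
      rw [Finset.card_univ] at h2
      omega
    have := congrFun (congrFun (key i k hik) a) i
    simpa [hia.symm] using this
  have : Nontrivial ι := Fintype.one_lt_card_iff_nontrivial.mp (by omega)
  have h2 := g.isUnit
  rw [‹(g : Matrix ι ι F) = 0›] at h2
  exact not_isUnit_zero h2

theorem ker_three [Finite F] (h : 3 ≤ Fintype.card ι) {a : Gam ι F} (ha : Θ ι F a = 1) :
    ∃ u, a = inl (GeneralLinearGroup.scalar ι u) := by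
  obtain ⟨g, σ, e⟩ := a
  rcases c2_cases e with rfl | rfl
  · obtain ⟨rfl, u, rfl⟩ := ker_fld (by omega) ha
    exact ⟨u, rfl⟩
  · exact (ker_graph h ha).elim

theorem Θ_inl_eq_one_iff [Finite F] (h : 2 ≤ Fintype.card ι) (g : GL ι F) :
    Θ ι F (inl g) = 1 ↔ ∃ u, g = GeneralLinearGroup.scalar ι u :=
  ⟨fun ha => (ker_fld h ha).2, by rintro ⟨u, rfl⟩; exact Θ_scalar u⟩

/-- the inner-diagonal part -/
noncomputable def ψ (ι : Type*) [Fintype ι] [DecidableEq ι] (F : Type*) [Field F] :
    GL ι F →* MulAut (ProjectiveSpecialLinearGroup ι F) := (Θ ι F).comp inl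

theorem ψ_apply (g : GL ι F) : ψ ι F g = Θ ι F (inl g) := rfl

instance normal_range_inl : (inl : GL ι F →* Gam ι F).range.Normal := by
  rw [range_inl_eq_ker_rightHom]; infer_instance

theorem normal_range_ψ [Finite F] (h : 2 ≤ Fintype.card ι) : (ψ ι F).range.Normal := by
  rw [ψ, MonoidHom.range_comp]
  exact Subgroup.Normal.map normal_range_inl _ (Θ_surjective h)

/-- determinant modulo `n`-th powers -/
def κ (ι : Type*) [Fintype ι] [DecidableEq ι] (F : Type*) [Field F] :
    GL ι F →* Fˣ ⧸ (powMonoidHom (Fintype.card ι) : Fˣ →* Fˣ).range :=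
  (QuotientGroup.mk' _).comp GeneralLinearGroup.det

theorem κ_surjective [Nonempty ι] : Function.Surjective (κ ι F) :=
  (QuotientGroup.mk'_surjective _).comp (GeneralLinearGroup.det_surjective)

theorem det_scalar' (u : Fˣ) :
    GeneralLinearGroup.det (GeneralLinearGroup.scalar ι u) = u ^ Fintype.card ι := by
  apply Units.ext
  simp

theorem inn_le_range_ψ : Inn (ProjectiveSpecialLinearGroup ι F) ≤ (ψ ι F).range := by
  rintro _ ⟨t, rfl⟩
  induction t using QuotientGroup.induction_on with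
  | H s => exact ⟨_, Θ_j s⟩

theorem ψ_mem_inn_iff [Finite F] (h : 2 ≤ Fintype.card ι) (g : GL ι F) :
    ψ ι F g ∈ Inn (ProjectiveSpecialLinearGroup ι F) ↔ κ ι F g = 1 := by
  have : κ ι F g = 1 ↔ ∃ u : Fˣ, u ^ Fintype.card ι = GeneralLinearGroup.det g :=
    QuotientGroup.eq_one_iff _
  rw [this]
  constructor
  · rintro ⟨t, ht⟩
    induction t using QuotientGroup.induction_on with
    | H s =>
      rw [← Θ_j] at ht
      obtain ⟨u, hu⟩ := (Θ_inl_eq_one_iff h ((SpecialLinearGroup.toGL s)⁻¹ * g)).mp (by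
        rw [map_mul, map_mul, map_inv, map_inv, ht, ψ_apply, inv_mul_cancel])
      refine ⟨u, ?_⟩
      rw [← det_scalar', ← hu, map_mul, map_inv, det_toGL]; simp
  · rintro ⟨u, hu⟩
    obtain ⟨s, hs⟩ := exists_toGL (g := g * (GeneralLinearGroup.scalar ι u)⁻¹) (by
      rw [map_mul, map_inv, det_scalar', hu, mul_inv_cancel])
    refine ⟨QuotientGroup.mk s, ?_⟩
    rw [← Θ_j, hs, map_mul, map_mul, map_inv, map_inv, Θ_scalar, ψ_apply]; simp

theorem right_eq_one_of_mem_inn [Finite F] (h : 3 ≤ Fintype.card ι) (a : Gam ι F)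
    (ha : Θ ι F a ∈ (ψ ι F).range) : a.right = 1 := by
  obtain ⟨g, hg⟩ := ha
  obtain ⟨u, hu⟩ := ker_three h (a := (inl g)⁻¹ * a) (by
    rw [map_mul, map_inv, ← hg, ψ_apply, inv_mul_cancel])
  simpa using congrArg SemidirectProduct.right hu

theorem fld_eq_one_of_mem [Finite F] (h : 2 ≤ Fintype.card ι) (g : GL ι F) (σ : F ≃+* F)
    (ha : Θ ι F ⟨g, (σ, 1)⟩ ∈ (ψ ι F).range) : σ = 1 := by
  obtain ⟨g', hg⟩ := ha
  refine (ker_fld h (g := g'⁻¹ * g) ?_).1
  have : (⟨g'⁻¹ * g, (σ, 1)⟩ : Gam ι F) = (inl g')⁻¹ * ⟨g, (σ, 1)⟩ := by ext <;> simp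
  rw [this, map_mul, map_inv, ← hg, ψ_apply, inv_mul_cancel]

section named
variable {n : ℕ}

theorem isInnerDiagonal_iff (β : MulAut (ProjectiveSpecialLinearGroup (Fin n) F)) :
    IsInnerDiagonalAutPSL β ↔ β ∈ (ψ (Fin n) F).range := by
  unfold IsInnerDiagonalAutPSL
  refine exists_congr fun g => ?_
  rw [eq_comm, ψ_apply, eq_Θ_iff]
  simp only [left_inl, right_inl, map_one, MulAut.one_apply, Units.ext_iff]
  rfl

theorem inndiag_eq : inndiagPSL n F = (ψ (Fin n) F).range :=
  autSubgroupOf_eq _ _ isInnerDiagonal_iff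

theorem isInduced_iff (g : GL (Fin n) F) (σ : F ≃+* F)
    (β : MulAut (ProjectiveSpecialLinearGroup (Fin n) F)) :
    IsInducedBySemilinearPSL g σ β ↔ β = Θ (Fin n) F ⟨g, (σ, 1)⟩ := by
  rw [eq_Θ_iff]
  simp only [act_fld, Units.ext_iff]
  rfl

theorem isStdField_iff (σ : F ≃+* F) (β : MulAut (ProjectiveSpecialLinearGroup (Fin n) F)) :
    IsStdFieldAutPSL σ β ↔ β = Θ (Fin n) F (inr (σ, 1)) := by
  rw [eq_Θ_iff]
  simp only [left_inr, right_inr, act_fld, one_mul, inv_one, mul_one, Units.ext_iff]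
  rfl

theorem isInverseTranspose_iff (β : MulAut (ProjectiveSpecialLinearGroup (Fin n) F)) :
    IsInverseTransposeAutPSL β ↔ β = Θ (Fin n) F (inr (1, Multiplicative.ofAdd 1)) := by
  rw [eq_Θ_iff]
  simp only [left_inr, right_inr, act_graph, one_mul, inv_one, mul_one, Units.ext_iff, glAut_one,
    MulAut.one_apply, coe_invT, ← map_inv]
  rfl

end named

end Cfsg.Agent.Lib.Aut.PSL
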