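import Cfsg.Agent.Lib.Aut.PSLSpec
import Cfsg.Agent.Lib.Aut.Twist
import Cfsg.Agent.Lib.Aut.Herm
import Cfsg.Agent.Lib.Forms.WittMatrix

set_option autoImplicit false
set_option linter.unusedSectionVars false

/-! Field and graph-field automorphisms of `PSL_n`. -/

namespace Cfsg.Agent.Lib.Aut

open Module Matrix Cfsg.Agent.Lib.GL.H90 SemidirectProduct

theorem eq_of_orderOf_two {G : Type*} [Group G] [Finite G] [IsCyclic G] {a b : G}
    (ha : orderOf a = 2) (hb : orderOf b = 2) : a = b := by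
  classical
  have := Fintype.ofFinite G
  have h := IsCyclic.card_orderOf_eq_totient (α := G) (d := 2) (by
    rw [← ha]; exact orderOf_dvd_card)
  rw [Nat.totient_two, Finset.card_eq_one] at h
  obtain ⟨c, hc⟩ := h
  have h1 : a ∈ ({c} : Finset G) := hc ▸ by simp [ha]
  have h2 : b ∈ ({c} : Finset G) := hc ▸ by simp [hb]
  rw [Finset.mem_singleton.mp h1, Finset.mem_singleton.mp h2]

theorem isCyclic_ringAut (K : Type*) [Field K] [Finite K] : IsCyclic (K ≃+* K) := by
  have := Fintype.ofFinite K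
  obtain ⟨p, _, n, hp, hn⟩ := FiniteField.card' K
  have := Fact.mk hp
  exact (ringAut_cyclic_card K hn).1

theorem ringAut_comm {K : Type*} [Field K] [Finite K] (σ τ : K ≃+* K) : σ * τ = τ * σ := by
  have := isCyclic_ringAut K
  exact (IsCyclic.commutative (α := K ≃+* K)).is_comm.comm σ τ

theorem exists_frob {F : Type*} [Field F] [Fintype F] {q : ℕ} (hF : Fintype.card F = q ^ 2) :
    ∃ σ : F ≃+* F, orderOf σ = 2 ∧ ∀ a, σ a = a ^ q := by
  obtain ⟨σ, h1, h2, a, h3⟩ := Forms.exists_frobenius_of_card_eq_sq hF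
  refine ⟨RingEquiv.ofRingHom σ σ (RingHom.ext h2) (RingHom.ext h2), ?_, h1⟩
  refine orderOf_eq_prime (RingEquiv.ext fun b => ?_) (fun h => h3 ?_)
  · rw [pow_two]; exact h2 b
  · exact congrArg (fun τ : F ≃+* F => τ a) h

theorem eq_pow_of_orderOf_two {F : Type*} [Field F] [Fintype F] {q : ℕ}
    (hF : Fintype.card F = q ^ 2) {σ : F ≃+* F} (hσ : orderOf σ = 2) (a : F) : σ a = a ^ q := by
  obtain ⟨τ, h1, h2⟩ := exists_frob hF
  have := isCyclic_ringAut F
  have := finite_ringAut F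
  rw [eq_of_orderOf_two hσ h1, h2]

theorem orderOf_eq_of_prime {G : Type*} [Group G] {a : G} {r : ℕ} (hr : r.Prime) (h : a ^ r = 1)
    (h1 : a ≠ 1) : orderOf a = r := by
  have := Fact.mk hr
  exact orderOf_eq_prime h h1

/-- a model of the fixed field -/
theorem exists_ringHom_fixed {F : Type*} [Field F] [Finite F] (σ : F ≃+* F) {q₀ r : ℕ}
    (hσ : orderOf σ = r) (hF : Nat.card F = q₀ ^ r) (F₀ : Type*) [Field F₀] [Fintype F₀]
    (hF₀ : Fintype.card F₀ = q₀) : ∃ f : F₀ →+* F, ∀ x, σ x = x ↔ x ∈ f.range := by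
  have := Fintype.ofFinite (fixedSub σ)
  let e : F₀ ≃+* fixedSub σ := FiniteField.ringEquivOfCardEq (by
    rw [hF₀, ← Nat.card_eq_fintype_card, card_fixedSub σ hσ hF])
  refine ⟨(fixedSub σ).subtype.comp e, fun x => ⟨fun h => ⟨e.symm ⟨x, h⟩, by simp⟩, ?_⟩⟩
  rintro ⟨y, rfl⟩
  exact (e y).2

theorem index_units_map {F F₀ : Type*} [Field F] [Finite F] [Field F₀] (f : F₀ →+* F) :
    (Units.map (f : F₀ →* F)).range.index = (Nat.card F - 1) / (Nat.card F₀ - 1) := by
  have : Finite F₀ := Finite.of_injective f f.injective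
  have h := (Units.map (f : F₀ →* F)).range.card_mul_index
  have h' : Nat.card F₀ˣ = Nat.card (Units.map (f : F₀ →* F)).range :=
    Nat.card_congr (MonoidHom.ofInjective (Units.map_injective f.injective)).toEquiv
  rw [← h', Nat.card_units, Nat.card_units] at h
  rw [← h, Nat.mul_div_cancel_left]
  have : 1 < Nat.card F₀ := Finite.one_lt_card
  omega

variable {F : Type*} [Field F] {ι : Type*} [Fintype ι] [DecidableEq ι]

theorem glAut_map_of_fixed {F₀ : Type*} [Field F₀] (σ : F ≃+* F) (f : F₀ →+* F)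
    (hf : ∀ x, σ x = x ↔ x ∈ f.range) (g : GL ι F) :
    glAut ι σ g = g ↔ ∃ g₀ : GL ι F₀, GeneralLinearGroup.map f g₀ = g := by
  constructor
  · intro h
    exact exists_gl_map_eq _ g fun i j =>
      (hf _).mp (congrArg (fun x : GL ι F => (x : Matrix ι ι F) i j) h)
  · rintro ⟨g₀, rfl⟩
    ext i j
    exact (hf _).mpr ⟨_, rfl⟩

theorem map_eq_scalar [Nonempty ι] {F₀ : Type*} [Field F₀] (f : F₀ →+* F) (g₀ : GL ι F₀) (u : Fˣ)
    (h : GeneralLinearGroup.map f g₀ = GeneralLinearGroup.scalar ι u) :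
    ∃ u₀, g₀ = GeneralLinearGroup.scalar ι u₀ := by
  obtain ⟨i⟩ := ‹Nonempty ι›
  have h1 : ∀ a b, f ((g₀ : Matrix ι ι F₀) a b) = if a = b then (u : F) else 0 := fun a b => by
    simpa [diagonal_apply] using congrArg (fun x : GL ι F => (x : Matrix ι ι F) a b) h
  have h2 : (g₀ : Matrix ι ι F₀) i i ≠ 0 := fun h0 => by
    have := h1 i i
    rw [h0, map_zero, if_pos rfl] at this
    exact u.ne_zero this.symm
  refine ⟨Units.mk0 _ h2, ?_⟩
  ext a b
  apply f.injective
  rw [h1]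
  by_cases hab : a = b <;> simp [hab, h1]

theorem map_scalar' {F₀ : Type*} [Field F₀] (f : F₀ →+* F) (u : F₀ˣ) :
    GeneralLinearGroup.map f (GeneralLinearGroup.scalar ι u) =
      GeneralLinearGroup.scalar ι (Units.map (f : F₀ →* F) u) := by
  ext i j
  by_cases h : i = j <;> simp [h]

theorem scalar_inj [Nonempty ι] : Function.Injective
    (GeneralLinearGroup.scalar ι : Fˣ →* GL ι F) := by
  obtain ⟨i⟩ := ‹Nonempty ι›
  intro a b h
  ext
  simpa using congrArg (fun x : GL ι F => (x : Matrix ι ι F) i i) h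

/-- if `σ(g)` is a scalar multiple of `g`, then some scalar multiple of `g` is fixed -/
theorem exists_scalar_mul_fixed [Finite F] [Nonempty ι] (σ : F ≃+* F) (g : GL ι F) (u : Fˣ)
    (h : g⁻¹ * glAut ι σ g = GeneralLinearGroup.scalar ι u) :
    ∃ d : Fˣ, glAut ι σ (GeneralLinearGroup.scalar ι d * g) = GeneralLinearGroup.scalar ι d * g := by
  have := finite_ringAut F
  rw [inv_mul_eq_iff_eq_mul, ← GL.H90.scalar_comm] at h
  obtain ⟨d, hd, -, h2⟩ := exists_smul_fixed σ (orderOf_pos σ) rfl g (u : F) (by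
    have := congrArg Units.val h
    rw [coe_glAut] at this
    rw [this]; simp [smul_eq_diagonal_mul])
  refine ⟨Units.mk0 d hd, Units.ext ?_⟩
  rw [coe_glAut]
  simpa [smul_eq_diagonal_mul] using h2

theorem mem_GU_iff {n q : ℕ} {σ : F ≃+* F} (hσ : ∀ a, σ a = a ^ q) (g : GL (Fin n) F) :
    g ∈ GU n F q ↔ (g : Matrix (Fin n) (Fin n) F)ᵀ * (g : Matrix (Fin n) (Fin n) F).map σ = 1 := by
  have k : ∀ u v : Fin n → F, hermForm n F q ((g : Matrix (Fin n) (Fin n) F) *ᵥ u)
      ((g : Matrix (Fin n) (Fin n) F) *ᵥ v) =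
      u ⬝ᵥ (((g : Matrix (Fin n) (Fin n) F)ᵀ * (g : Matrix (Fin n) (Fin n) F).map σ) *ᵥ
        fun i => σ (v i)) := by
    intro u v
    rw [← mulVec_mulVec, dotProduct_mulVec, vecMul_transpose]
    erw [← map_mulVec' (σ : F →+* F)]
    simp only [hermForm, ← hσ]; rfl
  constructor
  · intro h
    ext a b
    have := h (Pi.single a 1) (Pi.single b 1)
    erw [k] at this
    have e : (fun i => σ ((Pi.single b 1 : Fin n → F) i)) = Pi.single b 1 := by
      ext i; simp [Pi.single_apply]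
    rw [e] at this
    simpa [hermForm, ← hσ, Pi.single_apply, one_apply, eq_comm] using this
  · intro h u v
    erw [k]
    rw [h, one_mulVec]
    simp only [hermForm, ← hσ]; rfl

namespace PSL

theorem mem_GU_iff' {n q : ℕ} {σ : F ≃+* F} (hσ : ∀ a, σ a = a ^ q) (g : GL (Fin n) F) :
    g ∈ GU n F q ↔ invT (Fin n) F g = glAut (Fin n) σ g := by
  rw [mem_GU_iff hσ, ← inv_mul_eq_one (a := invT (Fin n) F g), Units.ext_iff]
  rfl

theorem conj_ψ (a : Gam ι F) (d : GL ι F) :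
    Θ ι F a * ψ ι F d * (Θ ι F a)⁻¹ = ψ ι F ((MulAut.conj a.left * act ι F a.right) d) := by
  rw [ψ_apply, ← map_inv, ← map_mul, ← map_mul, conj_inl]; rfl

theorem inr_conj_ψ (a : A F) (d : GL ι F) :
    Θ ι F (inr a) * ψ ι F d * (Θ ι F (inr a))⁻¹ = ψ ι F (act ι F a d) := by
  rw [conj_ψ]; simp

theorem ψ_scalar (u : Fˣ) : ψ ι F (GeneralLinearGroup.scalar ι u) = 1 := Θ_scalar u

theorem ψ_eq_one_iff [Finite F] (h : 2 ≤ Fintype.card ι) (g : GL ι F) :
    ψ ι F g = 1 ↔ ∃ u, g = GeneralLinearGroup.scalar ι u := Θ_inl_eq_one_iff h g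

theorem act_fld' (σ : F ≃+* F) : act ι F (σ, 1) = glAut ι σ := MulEquiv.ext (act_fld σ)

theorem orderOf_fld [Finite F] (h : 2 ≤ Fintype.card ι) (σ : F ≃+* F) :
    orderOf (Θ ι F (inr (σ, 1))) = orderOf σ :=
  orderOf_injective ((Θ ι F).comp (inr.comp (MonoidHom.inl _ _)))
    ((injective_iff_map_eq_one _).mpr fun _ ha => (ker_fld h ha).1) σ

theorem orderOf_inr [Finite F] (h : 3 ≤ Fintype.card ι) (a : A F) :
    orderOf (Θ ι F (inr a)) = orderOf a :=
  orderOf_injective ((Θ ι F).comp inr)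
    ((injective_iff_map_eq_one _).mpr fun a ha => by
      obtain ⟨u, hu⟩ := ker_three h ha
      simpa using congrArg SemidirectProduct.right hu) a

theorem lang_fld [Finite F] (h : 2 ≤ Fintype.card ι) {σ : F ≃+* F} {r : ℕ} (hσ : orderOf σ = r) :
    ∀ δ ∈ (ψ ι F).range, (δ * Θ ι F (inr (σ, 1))) ^ r = 1 →
      IsConjUnder (ψ ι F).range (Θ ι F (inr (σ, 1))) (δ * Θ ι F (inr (σ, 1))) := by
  have : Nonempty ι := Fintype.card_pos_iff.mp (by omega)
  refine twist_isConjUnder _ _ _ (inr_conj_ψ (σ, 1))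
    (by rw [← hσ, ← orderOf_fld h, pow_orderOf_eq_one]) fun d hd => ?_
  rw [act_fld'] at hd ⊢
  obtain ⟨u, hu⟩ := (ψ_eq_one_iff h _).mp hd
  obtain ⟨c, k, hk⟩ := exists_scalar_mul_eq_mul_inv σ hσ d u hu
  exact ⟨k, by rw [← hk, map_mul, ψ_scalar, one_mul]⟩

theorem act_graph_sq {σ : F ≃+* F} (hσ : orderOf σ = 2) (d : GL ι F) :
    act ι F (σ, Multiplicative.ofAdd 1) (act ι F (σ, Multiplicative.ofAdd 1) d) = d := by
  rw [act_graph, act_graph, invT_glAut, invT_invT]
  ext i j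
  exact sq_of_orderOf_two hσ _

theorem act_graph_scalar (σ : F ≃+* F) (u : Fˣ) :
    act ι F (σ, Multiplicative.ofAdd 1) (GeneralLinearGroup.scalar ι u) =
      GeneralLinearGroup.scalar ι (Units.map (σ : F →* F) u)⁻¹ := by
  rw [act_graph, invT_scalar, glAut_scalar, map_inv]

theorem lang_graphfld [Finite F] (h : 3 ≤ Fintype.card ι) {σ : F ≃+* F} (hσ : orderOf σ = 2) :
    ∀ δ ∈ (ψ ι F).range, (δ * Θ ι F (inr (σ, Multiplicative.ofAdd 1))) ^ 2 = 1 →
      IsConjUnder (ψ ι F).range (Θ ι F (inr (σ, Multiplicative.ofAdd 1)))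
        (δ * Θ ι F (inr (σ, Multiplicative.ofAdd 1))) := by
  have : Nonempty ι := Fintype.card_pos_iff.mp (by omega)
  refine twist_isConjUnder _ _ _ (inr_conj_ψ (σ, Multiplicative.ofAdd 1)) ?_ fun d hd => ?_
  · have h1 : σ ^ 2 = 1 := hσ ▸ pow_orderOf_eq_one σ
    rw [← map_pow, ← map_pow, Prod.pow_mk, h1]
    exact (congrArg _ (map_one _)).trans (map_one _)
  obtain ⟨u, hu⟩ := (ψ_eq_one_iff (by omega) _).mp hd
  set τ := act ι F (σ, Multiplicative.ofAdd 1) with hτ
  have hu' : d * τ d = GeneralLinearGroup.scalar ι u := by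
    simpa [List.range_succ] using hu
  have h1 : τ d * d = GeneralLinearGroup.scalar ι u := by
    rw [eq_inv_mul_of_mul_eq hu', ← GL.H90.scalar_comm, inv_mul_cancel_right]
  have h2 : u = (Units.map (σ : F →* F) u)⁻¹ := by
    apply scalar_inj (ι := ι)
    rw [← act_graph_scalar, ← hu', map_mul, act_graph_sq hσ, hu', h1]
  obtain ⟨c, hc0, hc⟩ := exists_map_eq_mul hσ (u := (u⁻¹ : Fˣ)) (by
    have h3 : (u : F) * σ u = 1 := congrArg Units.val (mul_eq_one_iff_eq_inv.mpr h2)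
    rw [Units.val_inv_eq_inv_val, map_inv₀, ← mul_inv, h3, inv_one])
  have h3 : GeneralLinearGroup.scalar ι (Units.mk0 c hc0) * d *
      τ (GeneralLinearGroup.scalar ι (Units.mk0 c hc0) * d) = 1 := by
    rw [map_mul, act_graph_scalar, GL.H90.scalar_comm _ (τ d), mul_assoc, ← mul_assoc d, hu',
      ← map_mul, ← map_mul, ← map_one (GeneralLinearGroup.scalar ι)]
    congr 1
    ext
    have h4 : σ c ≠ 0 := by simpa using hc0
    have h5 : σ c = u * c := by
      rw [← one_mul (σ c), ← Units.mul_inv u, mul_assoc, hc]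
    simp only [Units.val_mul, Units.val_mk0, Units.val_inv_eq_inv_val, Units.coe_map,
      MonoidHom.coe_coe, Units.val_one, h5]
    field_simp
  set M := GeneralLinearGroup.scalar ι (Units.mk0 c hc0) * d with hM
  obtain ⟨k, hk⟩ := exists_eq_mul_conjT hσ M (by
    have := congrArg Units.val (eq_inv_of_mul_eq_one_left h3)
    rw [hτ, act_graph] at this
    exact this.symm)
  refine ⟨k, ?_⟩
  have : M = k * (τ k)⁻¹ := by
    rw [hτ, act_graph]; exact Units.ext hk
  rw [← this, hM, map_mul, ψ_scalar, one_mul]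

end PSL

end Cfsg.Agent.Lib.Aut
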